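import Groth.Agent.L21.Disc.Push
import Groth.Agent.L21.CurveFlat
import Groth.Agent.L29.Trace
import Mathlib.RingTheory.RingHom.Etale

/-!
Euler characteristics of finite flat covers of integral proper curves.
-/

set_option autoImplicit false
set_option backward.isDefEq.respectTransparency false
set_option linter.style.haveILetI false
universe u

open CategoryTheory CategoryTheory.Limits AlgebraicGeometry TopologicalSpace Opposite Module

noncomputable section

namespace Groth.L21.Disc

open Groth.L22.CurveDeg.Det (IsBasisS exists_affine_basis)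

variable {X Y : Scheme.{u}} (f : X ⟶ Y) [IsFinite f] [IsIntegral Y]

theorem exists_rank_push [Flat f] [IsLocallyNoetherian Y] :
    ∃ n, FlatMod.IsFinLocFreeOfRank n (pushO f) := by
  haveI : LocallyOfFinitePresentation f := inferInstance
  refine exists_rank (Groth.L20.ResDescent.isFinLocFree_push f ⟨inferInstance, inferInstance, inferInstance⟩ _ ?_)
  exact Groth.L22.CurveDeg.isFinLocFree_of_rank Groth.L19.ProjBdl.isFinLocFreeOfRank_one_structureModule

theorem rank_pos [IsIntegral X] {n : ℕ} (hE : FlatMod.IsFinLocFreeOfRank n (pushO f))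
    (hdom : f (genericPoint X) = genericPoint Y) : 0 < n := by
  obtain ⟨U, e, hη, -, he⟩ := exists_affine_basis hE (genericPoint Y) ⊤ trivial
  by_contra h
  obtain rfl : n = 0 := Nat.eq_zero_of_not_pos h
  haveI : Nonempty (f ⁻¹ᵁ U.1 : X.Opens) := ⟨⟨genericPoint X, show f (genericPoint X) ∈ U.1 by rw [hdom]; exact hη⟩⟩
  haveI : Subsingleton Γ(X, f ⁻¹ᵁ U.1) := (combo_bijective f he).2.subsingleton
  exact one_ne_zero (α := Γ(X, f ⁻¹ᵁ U.1)) (Subsingleton.elim _ _)

theorem disc_ne_zero_of_separable [IsIntegral X] (hdom : f (genericPoint X) = genericPoint Y)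
    (hsep : letI := ((Y.presheaf.stalkSpecializes (specializes_of_eq hdom) ≫
      f.stalkMap (genericPoint X)).hom).toAlgebra
      Algebra.IsSeparable Y.functionField X.functionField)
    {n : ℕ} {U : Y.Opens} {e : Fin n → Γ(pushO f, U)} (hU : IsAffineOpen U) (he : IsBasisS (pushO f) e)
    (hne : (U : Set Y).Nonempty) : disc f e ≠ 0 := by
  letI := ((Y.presheaf.stalkSpecializes (specializes_of_eq hdom) ≫
      f.stalkMap (genericPoint X)).hom).toAlgebra
  haveI := hsep
  have hηU : genericPoint Y ∈ U := ((genericPoint_spec Y).mem_open_set_iff U.2).2 (by simpa using hne)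
  haveI : Nonempty U := ⟨⟨_, hηU⟩⟩
  haveI : Nonempty (f ⁻¹ᵁ U : X.Opens) := ⟨⟨genericPoint X, show f (genericPoint X) ∈ U by rw [hdom]; exact hηU⟩⟩
  haveI := functionField_isFractionRing_of_isAffineOpen Y U hU
  haveI := functionField_isFractionRing_of_isAffineOpen X (f ⁻¹ᵁ U) (hU.preimage f)
  letI := secAlg f U
  letI : Algebra Γ(Y, U) X.functionField :=
    ((algebraMap Γ(X, f ⁻¹ᵁ U) X.functionField).comp (algebraMap Γ(Y, U) Γ(X, f ⁻¹ᵁ U))).toAlgebra
  haveI : IsScalarTower Γ(Y, U) Γ(X, f ⁻¹ᵁ U) X.functionField := IsScalarTower.of_algebraMap_eq' rfl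
  haveI : IsScalarTower Γ(Y, U) Y.functionField X.functionField := IsScalarTower.of_algebraMap_eq fun r => by
    have key : ∀ (z : Y) (hz : z = genericPoint Y) (hzU : z ∈ U),
        Y.presheaf.stalkSpecializes (specializes_of_eq hz) (Y.germToFunctionField U r) =
          Y.presheaf.germ U z hzU r := by
      intro z hz hzU
      exact TopCat.Presheaf.germ_stalkSpecializes_apply Y.presheaf hηU _ r
    show X.germToFunctionField (f ⁻¹ᵁ U) (f.app U r) = f.stalkMap (genericPoint X)
      (Y.presheaf.stalkSpecializes (specializes_of_eq hdom) (Y.germToFunctionField U r))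
    rw [key _ hdom (hdom ▸ hηU)]
    exact (Scheme.Hom.germ_stalkMap_apply f U (genericPoint X) (hdom ▸ hηU) r).symm
  haveI : Module.Finite Γ(Y, U) Γ(X, f ⁻¹ᵁ U) := f.finite_app U hU
  have hinj : Function.Injective (algebraMap Γ(Y, U) Γ(X, f ⁻¹ᵁ U)) := fun a b h => by
    apply IsFractionRing.injective Γ(Y, U) Y.functionField
    apply (algebraMap Y.functionField X.functionField).injective
    rw [← IsScalarTower.algebraMap_apply, ← IsScalarTower.algebraMap_apply,
      IsScalarTower.algebraMap_apply Γ(Y, U) Γ(X, f ⁻¹ᵁ U) X.functionField, h,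
      ← IsScalarTower.algebraMap_apply]
  rw [disc_eq f he]
  exact det_traceMatrix_ne_zero hinj (toBasis f he) Y.functionField X.functionField

omit [IsIntegral Y] in
theorem isUnit_disc_of_etale [Etale f] {n : ℕ} {U : Y.Opens} {e : Fin n → Γ(pushO f, U)}
    (hU : IsAffineOpen U) (he : IsBasisS (pushO f) e) : IsUnit (disc f e) := by
  letI := secAlg f U
  haveI : Algebra.Etale Γ(Y, U) Γ(X, f ⁻¹ᵁ U) := by
    refine (RingHom.etale_algebraMap).1 ?_
    have h : (f.app U).hom.Etale := by
      rw [Scheme.Hom.app_eq_appLE]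
      exact HasRingHomProperty.appLE @Etale f inferInstance ⟨U, hU⟩ ⟨f ⁻¹ᵁ U, hU.preimage f⟩ le_rfl
    exact h
  rw [disc_eq f he, ← Matrix.det_reindex_self (Equiv.ulift.{u}.symm : Fin n ≃ ULift.{u} (Fin n)),
    ← Algebra.traceMatrix_reindex]
  exact Groth.L29.Trace.isUnit_det_traceMatrix _

variable (k : Type u) [Field k] [X.Over (Spec (CommRingCat.of k))] [Y.Over (Spec (CommRingCat.of k))]
  [IsProper (Y ↘ Spec (CommRingCat.of k))]

omit [IsIntegral Y] in
theorem euler_eq_deg (hf : f ≫ (Y ↘ Spec (CommRingCat.of k)) = X ↘ Spec (CommRingCat.of k)) (n : ℕ) :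
    Curv2.euler k X (Coh.structureModule X) =
      Curv2.deg k Y (pushO f) n + n * Curv2.euler k Y (Coh.structureModule Y) := by
  haveI := Groth.L21.RR.isNoetherian_of_proper (X := Y) k
  haveI : IsLocallyNoetherian X := LocallyOfFiniteType.isLocallyNoetherian f
  haveI : Y.IsSeparated := ⟨by rw [← terminal.comp_from (Y ↘ Spec (CommRingCat.of k))]; infer_instance⟩
  have h1 : Curv2.euler k Y (pushO f) = Curv2.euler k X (Coh.structureModule X) :=
    Groth.L03.Euler.euler_push f (Coh.structureModule X) Groth.L16.CohClosedPush.isCoh_structure.1 hf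
  rw [← h1, Curv2.deg]
  ring

theorem euler_eq_of_etale [Etale f] (hd : topologicalKrullDim Y = 1)
    (hf : f ≫ (Y ↘ Spec (CommRingCat.of k)) = X ↘ Spec (CommRingCat.of k)) {n : ℕ}
    (hE : FlatMod.IsFinLocFreeOfRank n (pushO f)) :
    Curv2.euler k X (Coh.structureModule X) = n * Curv2.euler k Y (Coh.structureModule Y) := by
  obtain ⟨δ, T, hδ, -, -, hdeg⟩ := exists_two_mul_deg_push f k hd hE fun U e hU he hne h => by
    haveI : Nonempty U := hne.to_subtype
    exact not_isUnit_zero (h ▸ isUnit_disc_of_etale f hU he)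
  rw [euler_eq_deg f k hf n]
  rw [Finset.sum_eq_zero (fun y _ => ?_)] at hdeg
  · linarith
  · obtain ⟨U, e, hy, hU, he, h⟩ := hδ y
    rw [h, Ring.ord_of_isUnit ((isUnit_disc_of_etale f hU he).map _)]
    simp

theorem euler_le [IsIntegral X] (hd : topologicalKrullDim Y = 1)
    (hf : f ≫ (Y ↘ Spec (CommRingCat.of k)) = X ↘ Spec (CommRingCat.of k))
    (hdom : f (genericPoint X) = genericPoint Y)
    (hsep : letI := ((Y.presheaf.stalkSpecializes (specializes_of_eq hdom) ≫
      f.stalkMap (genericPoint X)).hom).toAlgebra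
      Algebra.IsSeparable Y.functionField X.functionField) {n : ℕ}
    (hE : FlatMod.IsFinLocFreeOfRank n (pushO f)) :
    Curv2.euler k X (Coh.structureModule X) ≤ n * Curv2.euler k Y (Coh.structureModule Y) := by
  obtain ⟨δ, T, -, -, -, hdeg⟩ := exists_two_mul_deg_push f k hd hE fun U e hU he hne =>
    disc_ne_zero_of_separable f hdom hsep hU he hne
  rw [euler_eq_deg f k hf n]
  have : (0 : ℤ) ≤ ∑ y ∈ T, ((Ring.ord (Y.presheaf.stalk y) (δ y)).toNat : ℤ) *
      ((Y ↘ Spec (CommRingCat.of k)).residueDegree y : ℤ) := Finset.sum_nonneg fun y _ => by positivity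
  linarith

omit [IsIntegral Y] in
theorem isIso_of_rank_one (hE : FlatMod.IsFinLocFreeOfRank 1 (pushO f)) : IsIso f := by
  choose U e hy _ he using fun y : Y => exists_affine_basis hE y ⊤ trivial
  have hsup : ⨆ y, (U y).1 = ⊤ := top_le_iff.1 fun y _ => TopologicalSpace.Opens.mem_iSup.2 ⟨y, hy y⟩
  rw [← MorphismProperty.isomorphisms.iff,
    IsZariskiLocalAtTarget.iff_of_iSup_eq_top (P := MorphismProperty.isomorphisms Scheme.{u}) _ hsup]
  intro y
  rw [MorphismProperty.isomorphisms.iff]
  haveI : IsAffine (U y).1.toScheme := (U y).2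
  haveI : IsAffine (f ⁻¹ᵁ (U y).1).toScheme := ((U y).2.preimage f)
  suffices Function.Bijective (f.app (U y).1).hom by
    haveI : IsIso (f.app (U y).1) := (ConcreteCategory.isIso_iff_bijective _).2 this
    exact (isIso_morphismRestrict_iff_isIso_app f (U y).2).2 inferInstance
  letI := secAlg f (U y).1
  haveI : Nontrivial Γ(Y, (U y).1) := by
    haveI : Nonempty (U y).1 := ⟨⟨y, hy y⟩⟩
    infer_instance
  let b := toBasis f (he y)
  have hspan : ∀ z, z = b.repr z 0 • b 0 := fun z => by
    conv_lhs => rw [← b.sum_repr z]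
    rw [Fin.sum_univ_one]
  have hrr := hspan (b 0 * b 0)
  have h1 := hspan 1
  constructor
  · intro r r' h
    have : r • b 0 = r' • b 0 := by
      rw [Algebra.smul_def, Algebra.smul_def]; exact congrArg (· * b 0) h
    exact (b.repr.map_smul r (b 0)).symm.trans ((congrArg b.repr this).trans (b.repr.map_smul r' (b 0))) |>
      fun e => by simpa using congr($e 0)
  · intro z
    obtain ⟨u, hu⟩ : ∃ u, u = b.repr 1 0 := ⟨_, rfl⟩
    obtain ⟨c, hc⟩ : ∃ c, c = b.repr (b 0 * b 0) 0 := ⟨_, rfl⟩
    rw [← hu] at h1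
    rw [← hc] at hrr
    have hb : b 0 = algebraMap Γ(Y, (U y).1) _ (u * c) * b 0 := by
      conv_lhs => rw [← one_mul (b 0), h1, smul_mul_assoc, hrr, smul_smul]
      exact Algebra.smul_def _ _
    have hb2 : b 0 = algebraMap Γ(Y, (U y).1) _ c := by
      calc b 0 = b 0 * 1 := (mul_one _).symm
        _ = u • (b 0 * b 0) := by rw [h1, mul_smul_comm]
        _ = c • (u • b 0) := by rw [hrr, smul_comm]
        _ = algebraMap _ _ c := by rw [← h1, Algebra.algebraMap_eq_smul_one]
    refine ⟨b.repr z 0 * c, ?_⟩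
    show algebraMap Γ(Y, (U y).1) Γ(X, f ⁻¹ᵁ (U y).1) _ = z
    rw [map_mul, ← hb2, ← Algebra.smul_def, ← hspan z]

end Groth.L21.Disc

namespace Groth.L21.Disc

variable (k : Type u) [Field k] {X Y : Scheme.{u}} [X.Over (Spec (CommRingCat.of k))] [Y.Over (Spec (CommRingCat.of k))]
  [IsProper (Y ↘ Spec (CommRingCat.of k))]

theorem euler_structure_le_one [IsProper (X ↘ Spec (CommRingCat.of k))] (hd : topologicalKrullDim X ≤ 1)
    (h0 : Module.finrank k (Coh.HH X (Coh.structureModule X) 0) = 1) :
    Curv2.euler k X (Coh.structureModule X) = 1 - (Curv2.genus k X : ℤ) := by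
  rw [Groth.L21.RR.euler_eq k hd]
  show ((Module.finrank k (Coh.HH X (Coh.structureModule X) 0) : ℕ) : ℤ) - _ = _
  rw [h0]
  rfl

/-- A finite étale cover of a curve of genus zero by a curve is trivial. -/
theorem isIso_of_etale_genus_zero [IsIntegral X] [IsIntegral Y] (hdX : topologicalKrullDim X ≤ 1)
    (hdY : topologicalKrullDim Y = 1)
    (hX0 : Module.finrank k (Coh.HH X (Coh.structureModule X) 0) = 1)
    (hY0 : Module.finrank k (Coh.HH Y (Coh.structureModule Y) 0) = 1)
    (f : X ⟶ Y) [IsFinite f] [Etale f] (hf : f ≫ (Y ↘ Spec (CommRingCat.of k)) = X ↘ Spec (CommRingCat.of k))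
    (hg : Curv2.genus k Y = 0) : IsIso f := by
  haveI := Groth.L21.RR.isNoetherian_of_proper (X := Y) k
  haveI : IsProper (X ↘ Spec (CommRingCat.of k)) := by rw [← hf]; infer_instance
  haveI : Flat f := inferInstance
  obtain ⟨n, hn⟩ := exists_rank_push f
  have hdom : f (genericPoint X) = genericPoint Y := by
    have h := Groth.L20.apply_mem_genericPoints f (ξ := genericPoint X)
      ((Groth.L20.mem_genericPoints_iff _).2 fun x hx => hx.antisymm ((genericPoint_spec X).specializes trivial) |>.eq)
    exact ((Groth.L20.mem_genericPoints_iff _).1 h _ ((genericPoint_spec Y).specializes trivial)).symm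
  have hpos := rank_pos f hn hdom
  have key := euler_eq_of_etale f k hdY hf hn
  rw [euler_structure_le_one k hdX hX0, euler_structure_le_one k hdY.le hY0, hg] at key
  obtain rfl : n = 1 := by push_cast at key; omega
  exact isIso_of_rank_one f hn

/-- The arithmetic genus does not drop in finite separable covers of normal curves. -/
theorem arithGenus_le [IsIntegral X] [IsIntegral Y] [IsProper (X ↘ Spec (CommRingCat.of k))]
    (hdX : topologicalKrullDim X = 1) (hdY : topologicalKrullDim Y = 1)
    (hnY : ∀ y : Y, IsDomain (Y.presheaf.stalk y) ∧ IsIntegrallyClosed (Y.presheaf.stalk y))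
    (f : X ⟶ Y) [IsFinite f] (hf : f ≫ (Y ↘ Spec (CommRingCat.of k)) = X ↘ Spec (CommRingCat.of k))
    (e : f (genericPoint X) = genericPoint Y)
    (hsep : letI := ((Y.presheaf.stalkSpecializes (specializes_of_eq e) ≫ f.stalkMap (genericPoint X)).hom).toAlgebra
      Algebra.IsSeparable Y.functionField X.functionField)
    (hpa : 0 ≤ 1 - Curv2.euler k X (Coh.structureModule X)) :
    1 - Curv2.euler k Y (Coh.structureModule Y) ≤ 1 - Curv2.euler k X (Coh.structureModule X) := by
  haveI := Groth.L21.RR.isNoetherian_of_proper (X := Y) k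
  haveI := Groth.L21.RR.isNoetherian_of_proper (X := X) k
  have hnt : (Set.range f).Nontrivial := by
    have hnc : ¬ IsClosed ({genericPoint Y} : Set Y) := fun h => by
      have hall : ∀ y : Y, y = genericPoint Y := fun y => Set.mem_singleton_iff.1
        (((genericPoint_spec Y).specializes trivial).mem_closed h (Set.mem_singleton _))
      haveI : Subsingleton Y := ⟨fun a b => (hall a).trans (hall b).symm⟩
      haveI : Subsingleton (IrreducibleCloseds Y) := ⟨fun p q => IrreducibleCloseds.ext (by
        ext w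
        obtain ⟨a, ha⟩ := p.isIrreducible.1
        obtain ⟨b, hb⟩ := q.isIrreducible.1
        exact ⟨fun _ => Subsingleton.elim b w ▸ hb, fun _ => Subsingleton.elim a w ▸ ha⟩)⟩
      haveI : Nonempty (IrreducibleCloseds Y) :=
        ⟨⟨closure {genericPoint Y}, isIrreducible_singleton.closure, isClosed_closure⟩⟩
      have h0 : topologicalKrullDim Y = 0 := Order.krullDim_eq_zero
      rw [hdY] at h0
      exact one_ne_zero h0
    obtain ⟨x, hx⟩ : ∃ x : X, IsClosed ({x} : Set X) := by
      obtain ⟨x, -, hx⟩ := (isClosed_univ (X := X)).exists_closed_singleton Set.univ_nonempty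
      exact ⟨x, hx⟩
    refine ⟨_, ⟨genericPoint X, rfl⟩, _, ⟨x, rfl⟩, fun h => hnc ?_⟩
    have := f.isClosedMap _ hx
    rwa [Set.image_singleton, ← h, e] at this
  haveI : Flat f := Groth.L21.flat_of_nonconstant hdY.le hnY f hnt
  obtain ⟨n, hn⟩ := exists_rank_push f
  have hpos := rank_pos f hn e
  have key := euler_le f k hdY hf e hsep hn
  by_contra h
  have h1 : (n : ℤ) * Curv2.euler k Y (Coh.structureModule Y) ≤ Curv2.euler k Y (Coh.structureModule Y) := by
    nlinarith
  linarith

end Groth.L21.Disc
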