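import Groth.Agent.L21.Disc.Local
import Groth.Agent.L21.Disc.Cover
import Groth.Agent.L21.RR.ProjLineGenus
import Groth.Agent.L22.Cyc.CurveDeg
import Groth.Agent.L22.Cyc.FiniteDeg
import Groth.Agent.L22.FibreDim

/-!
The Riemann–Hurwitz formula with different exponents for finite separable covers of normal curves.
-/

set_option autoImplicit false
set_option backward.isDefEq.respectTransparency false
set_option linter.style.haveILetI false
universe u

open CategoryTheory CategoryTheory.Limits AlgebraicGeometry TopologicalSpace Opposite Module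
attribute [local instance] Curv2.resAlgebra

noncomputable section

namespace Groth.L21.Disc

open Groth.L22.CurveDeg.Det (IsBasisS exists_affine_basis)
open scoped nonZeroDivisors

variable {X Y : Scheme.{u}} (f : X ⟶ Y)

/-- The rank of the direct image is the degree of the function field extension. -/
theorem finrank_functionField [IsFinite f] [IsIntegral X] [IsIntegral Y]
    (hnX : ∀ x : X, IsDomain (X.presheaf.stalk x) ∧ IsIntegrallyClosed (X.presheaf.stalk x))
    (hdom : f (genericPoint X) = genericPoint Y)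
    (hsep : letI := ((Y.presheaf.stalkSpecializes (specializes_of_eq hdom) ≫
      f.stalkMap (genericPoint X)).hom).toAlgebra
      Algebra.IsSeparable Y.functionField X.functionField)
    {n : ℕ} (hE : FlatMod.IsFinLocFreeOfRank n (pushO f)) :
    (letI := ((Y.presheaf.stalkSpecializes (specializes_of_eq hdom) ≫
      f.stalkMap (genericPoint X)).hom).toAlgebra
     Module.finrank Y.functionField X.functionField) = n := by
  letI := ((Y.presheaf.stalkSpecializes (specializes_of_eq hdom) ≫
      f.stalkMap (genericPoint X)).hom).toAlgebra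
  haveI := hsep
  obtain ⟨⟨U, hU⟩, e, hηU, -, he⟩ := exists_affine_basis hE (genericPoint Y) ⊤ trivial
  haveI : Nonempty U := ⟨⟨_, hηU⟩⟩
  haveI : Nonempty (f ⁻¹ᵁ U : X.Opens) := ⟨⟨genericPoint X, show f (genericPoint X) ∈ U by rw [hdom]; exact hηU⟩⟩
  have hW : IsAffineOpen (f ⁻¹ᵁ U) := hU.preimage f
  haveI := functionField_isFractionRing_of_isAffineOpen Y U hU
  haveI := functionField_isFractionRing_of_isAffineOpen X (f ⁻¹ᵁ U) hW
  letI := secAlg f U
  letI : Algebra Γ(Y, U) X.functionField :=
    ((algebraMap Γ(X, f ⁻¹ᵁ U) X.functionField).comp (algebraMap Γ(Y, U) Γ(X, f ⁻¹ᵁ U))).toAlgebra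
  haveI : IsScalarTower Γ(Y, U) Γ(X, f ⁻¹ᵁ U) X.functionField := IsScalarTower.of_algebraMap_eq' rfl
  haveI : IsScalarTower Γ(Y, U) Y.functionField X.functionField := IsScalarTower.of_algebraMap_eq fun r =>
    (overMap_germ f (genericPoint X) (genericPoint Y) hdom U hηU r).symm
  haveI : Module.Finite Γ(Y, U) Γ(X, f ⁻¹ᵁ U) := f.finite_app U hU
  haveI := isIntegrallyClosed_of_normal hnX hW
  haveI : IsIntegralClosure Γ(X, f ⁻¹ᵁ U) Γ(Y, U) X.functionField :=
    IsIntegralClosure.of_isIntegrallyClosed _ _ _
  haveI := IsIntegralClosure.isLocalization_of_isSeparable Γ(Y, U) Y.functionField X.functionField Γ(X, f ⁻¹ᵁ U)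
  rw [Module.finrank_eq_card_basis ((toBasis f he).localizationLocalization Y.functionField Γ(Y, U)⁰ X.functionField),
    Fintype.card_fin]

variable (k : Type u) [Field k] [X.Over (Spec (CommRingCat.of k))] [Y.Over (Spec (CommRingCat.of k))]

theorem finite_residueField_of_isClosed [LocallyOfFiniteType (X ↘ Spec (CommRingCat.of k))] {x : X}
    (hx : IsClosed ({x} : Set X)) : Module.Finite k (X.residueField x) := by
  haveI : IsClosedImmersion (X.fromSpecResidueField x) :=
    IsClosedImmersion.of_isPreimmersion _ (by rw [Scheme.range_fromSpecResidueField]; exact hx)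
  have h : LocallyOfFiniteType (Spec.map (CommRingCat.ofHom (Curv2.resMap k X x))) := by
    rw [Groth.L22.FibreDim.SpecMap_resMap]; infer_instance
  rw [HasRingHomProperty.Spec_iff (P := @LocallyOfFiniteType)] at h
  haveI : Algebra.FiniteType k (X.residueField x) := RingHom.finiteType_algebraMap.1 h
  exact finite_of_finite_type_of_isJacobsonRing k _

theorem finrank_resAlgebra_eq [LocallyOfFiniteType (X ↘ Spec (CommRingCat.of k))] (x : X) :
    Module.finrank k (X.residueField x) = (X ↘ Spec (CommRingCat.of k)).residueDegree x :=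
  Groth.L22.Cyc.finrank_residueField_eq k (X ↘ Spec (CommRingCat.of k)) x

variable [IsIntegral X] [IsIntegral Y] [IsFinite f]
  [IsProper (X ↘ Spec (CommRingCat.of k))] [IsProper (Y ↘ Spec (CommRingCat.of k))]

open Classical in
set_option maxHeartbeats 1000000 in
/-- The Riemann–Hurwitz formula with different exponents. -/
theorem exists_hurwitz (hdX : topologicalKrullDim X = 1) (hdY : topologicalKrullDim Y = 1)
    (hnX : ∀ x : X, IsDomain (X.presheaf.stalk x) ∧ IsIntegrallyClosed (X.presheaf.stalk x))
    (hnY : ∀ y : Y, IsDomain (Y.presheaf.stalk y) ∧ IsIntegrallyClosed (Y.presheaf.stalk y))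
    (hf : f ≫ (Y ↘ Spec (CommRingCat.of k)) = X ↘ Spec (CommRingCat.of k))
    (hdom : f (genericPoint X) = genericPoint Y)
    (hsep : letI := ((Y.presheaf.stalkSpecializes (specializes_of_eq hdom) ≫
      f.stalkMap (genericPoint X)).hom).toAlgebra
      Algebra.IsSeparable Y.functionField X.functionField) :
    ∃ (d : X → ℕ) (F : Finset X),
      (∀ x ∈ F, IsClosed ({x} : Set X)) ∧
      (∀ x, IsClosed ({x} : Set X) → IsTameSpec (f.stalkMap x).hom (d x) ∧ IsLenSpec (f.stalkMap x).hom (d x)) ∧
      (∀ x, IsClosed ({x} : Set X) → x ∉ F → d x = 0) ∧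
      -2 * Curv2.euler k X (Coh.structureModule X) =
        -2 * ((letI := ((Y.presheaf.stalkSpecializes (specializes_of_eq hdom) ≫
            f.stalkMap (genericPoint X)).hom).toAlgebra
          Module.finrank Y.functionField X.functionField : ℕ) : ℤ) * Curv2.euler k Y (Coh.structureModule Y) +
          ((∑ x ∈ F, d x * Module.finrank k (X.residueField x) : ℕ) : ℤ) := by
  haveI := Groth.L21.RR.isNoetherian_of_proper (X := Y) k
  haveI := Groth.L21.RR.isNoetherian_of_proper (X := X) k
  have hclY : ∀ {x : X}, IsClosed ({x} : Set X) → IsClosed ({f x} : Set Y) := fun {x} hx => by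
    simpa using f.isClosedMap _ hx
  have hclX : ∀ {x : X}, IsClosed ({f x} : Set Y) → IsClosed ({x} : Set X) := fun {x} hy => by
    obtain ⟨z, hz⟩ := Groth.L21.CurveTop.exists_eq_singleton hdX.le isClosed_closure
      (isIrreducible_singleton (x := x)).closure (fun h => Groth.L21.RR.ne_genericPoint_of_isClosed hdY hy (by
        rw [← hdom]
        exact congrArg f ((genericPoint_spec X).eq (h : IsGenericPoint x Set.univ)).symm))
    obtain rfl : x = z := Set.mem_singleton_iff.1 (hz.subset (subset_closure rfl))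
    exact hz ▸ isClosed_closure
  haveI : Flat f := Groth.L21.flat_of_nonconstant hdY.le hnY f (by
    obtain ⟨x, -, hx⟩ := (isClosed_univ (X := X)).exists_closed_singleton Set.univ_nonempty
    refine ⟨_, ⟨genericPoint X, rfl⟩, _, ⟨x, rfl⟩, fun h => ?_⟩
    exact Groth.L21.RR.ne_genericPoint_of_isClosed hdY (hclY hx) (h.symm.trans hdom))
  obtain ⟨n, hn⟩ := exists_rank_push f
  rw [finrank_functionField f hnX hdom hsep hn]
  obtain ⟨δ, T, hδ, hT, hT', hdeg⟩ := exists_two_mul_deg_push f k hdY hn fun U e hU he hne =>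
    disc_ne_zero_of_separable f hdom hsep hU he hne
  let fib : Y → Finset X := fun y => (f.finite_preimage_singleton y).toFinset
  have hfib : ∀ y x, x ∈ fib y ↔ f x = y := fun y x => by simp [fib]
  have hy : ∀ y : Y, ∃ d : X → ℕ, IsClosed ({y} : Set Y) →
      (Ring.ord (Y.presheaf.stalk y) (δ y)).toNat = ∑ x ∈ fib y, d x * f.residueDegree x ∧
      ∀ x, f x = y → IsTameSpec (f.stalkMap x).hom (d x) ∧ IsLenSpec (f.stalkMap x).hom (d x) := fun y => by
    by_cases hy : IsClosed ({y} : Set Y)
    · obtain ⟨U, e, hyU, hU, he, h⟩ := hδ y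
      obtain ⟨d, hd⟩ := exists_exponents f hdX.le hdY.le hnX hnY hdom hsep hU he y hyU
        (Groth.L21.RR.ne_genericPoint_of_isClosed hdY hy) (fib y) (hfib y)
      exact ⟨d, fun _ => by rw [h]; exact hd⟩
    · exact ⟨0, fun h => absurd h hy⟩
  choose d hd using hy
  have hdx : ∀ x, Module.finrank k (X.residueField x) =
      (Y ↘ Spec (CommRingCat.of k)).residueDegree (f x) * f.residueDegree x := fun x => by
    rw [finrank_resAlgebra_eq, ← Groth.L22.Cyc.residueDegree_comp, Groth.L22.Cyc.residueDegree_congr _ hf.symm]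
  let F := T.biUnion fib
  refine ⟨fun x => d (f x) x, F, ?_, fun x hx => (hd _ (hclY hx)).2 x rfl, ?_, ?_⟩
  · intro x hx
    obtain ⟨y, hyT, hxy⟩ := Finset.mem_biUnion.1 hx
    obtain rfl := (hfib y x).1 hxy
    exact hclX (hT _ hyT)
  · intro x hx hxF
    have h0 := (hd _ (hclY hx)).1
    rw [Ring.ord_of_isUnit (hT' _ (hclY hx) fun h => hxF (Finset.mem_biUnion.2 ⟨_, h, (hfib _ x).2 rfl⟩))] at h0
    have h1 : d (f x) x * f.residueDegree x = 0 :=
      mul_eq_zero.2 ((by simpa using h0.symm : ∀ i ∈ fib (f x), d (f x) i = 0 ∨ f.residueDegree i = 0) x ((hfib _ x).2 rfl))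
    haveI := finite_residueField_of_isClosed k hx
    have h2 : 0 < Module.finrank k (X.residueField x) := Module.finrank_pos
    rw [hdx] at h2
    exact (mul_eq_zero.1 h1).resolve_right (Nat.pos_of_mul_pos_left h2).ne'
  · have hsum : ((∑ x ∈ F, d (f x) x * Module.finrank k (X.residueField x) : ℕ) : ℤ) =
        ∑ y ∈ T, ((Ring.ord (Y.presheaf.stalk y) (δ y)).toNat : ℤ) *
          ((Y ↘ Spec (CommRingCat.of k)).residueDegree y : ℤ) := by
      rw [Nat.cast_sum, Finset.sum_biUnion (fun a _ b _ hab => Finset.disjoint_left.2 fun x hxa hxb =>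
        hab (((hfib a x).1 hxa).symm.trans ((hfib b x).1 hxb)))]
      refine Finset.sum_congr rfl fun y hyT => ?_
      rw [(hd y (hT y hyT)).1, Nat.cast_sum, Finset.sum_mul]
      refine Finset.sum_congr rfl fun x hx => ?_
      obtain rfl := (hfib y x).1 hx
      rw [hdx]
      push_cast
      ring
    rw [hsum, euler_eq_deg f k hf n]
    linarith

end Groth.L21.Disc
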