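import Groth.Agent.L21.Disc.Cover
import Groth.Agent.L21.RR.GeomGenusZero
import Groth.Agent.L21.Curve.NormalConnected
import Groth.Agent.L21.Smooth.Scheme
import Groth.Agent.L16.ProjSpace.Sections
import Groth.Agent.L16.ProjSpace.Dim
import Mathlib.AlgebraicGeometry.Geometrically.Connected

/-!
Smooth geometrically connected curves are geometrically integral; the projective line is simply connected.
-/

set_option autoImplicit false
set_option backward.isDefEq.respectTransparency false
set_option linter.style.haveILetI false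
universe u

open CategoryTheory CategoryTheory.Limits AlgebraicGeometry TopologicalSpace

noncomputable section

namespace Groth.L21.Disc

variable {k : Type u} [Field k]

/-- Proper, smooth and geometrically connected schemes over a field are geometrically integral. -/
theorem geometricallyIntegral_of_smooth {X : Scheme.{u}} (p : X ⟶ Spec (CommRingCat.of k)) [IsProper p]
    [Smooth p] [GeometricallyConnected p] : GeometricallyIntegral p := by
  refine ⟨fun K _ y Y g q sq => ?_⟩
  haveI : IsProper q := MorphismProperty.of_isPullback (P := @IsProper) sq inferInstance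
  haveI : Smooth q := MorphismProperty.of_isPullback (P := @Smooth) sq inferInstance
  haveI : ConnectedSpace Y := GeometricallyConnected.geometrically_connectedSpace _ _ _ sq
  haveI : IsNoetherian Y :=
    letI : Y.Over (Spec (CommRingCat.of K)) := ⟨q⟩
    haveI : IsProper (Y ↘ Spec (CommRingCat.of K)) := ‹IsProper q›
    Groth.L21.RR.isNoetherian_of_proper (X := Y) K
  refine Groth.L21.NormalTotal.isIntegral_of_connected fun x => ?_
  exact Groth.L21.Smooth.isDomain_stalk q x

/-- A finite étale geometrically connected cover of the projective line is trivial. -/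
theorem isIso_of_finite_etale_projLine {X : Scheme.{u}} (f : X ⟶ CohB1.ProjSpace 1 k) [IsFinite f] [Etale f]
    [GeometricallyConnected (f ≫ CohB1.ProjSpace.toSpec 1 k)] : IsIso f := by
  let Y := CohB1.ProjSpace 1 k
  letI : Y.Over (Spec (CommRingCat.of k)) := ⟨CohB1.ProjSpace.toSpec 1 k⟩
  letI : X.Over (Spec (CommRingCat.of k)) := ⟨f ≫ CohB1.ProjSpace.toSpec 1 k⟩
  haveI : IsProper (Y ↘ Spec (CommRingCat.of k)) := Groth.L16.ProjSpace.isProper_toSpec (n := 1) (R := k)
  haveI : IsProper (CohB1.ProjSpace.toSpec 1 k) := Groth.L16.ProjSpace.isProper_toSpec (n := 1) (R := k)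
  haveI : IsIntegral Y := Groth.L16.ProjSpace.isIntegral (n := 1) (R := k)
  haveI := Groth.L21.RR.isNoetherian_of_proper (X := Y) k
  haveI : Smooth (f ≫ CohB1.ProjSpace.toSpec 1 k) := inferInstance
  haveI : GeometricallyConnected (X ↘ Spec (CommRingCat.of k)) := ‹_›
  haveI : Smooth (X ↘ Spec (CommRingCat.of k)) := ‹Smooth (f ≫ _)›
  haveI : IsProper (X ↘ Spec (CommRingCat.of k)) :=
    inferInstanceAs (IsProper (f ≫ CohB1.ProjSpace.toSpec 1 k))
  haveI : GeometricallyIntegral (X ↘ Spec (CommRingCat.of k)) := geometricallyIntegral_of_smooth _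
  haveI : IsIntegral X := GeometricallyIntegral.isIntegral_of_subsingleton (X ↘ Spec (CommRingCat.of k))
  have hdY : topologicalKrullDim Y = 1 := by
    rw [Groth.L16.ProjSpace.topologicalKrullDim_eq_of_field 1 k]; norm_num
  have hdX : topologicalKrullDim X = 1 := by
    haveI : IsIntegralHom f := inferInstance
    have hle : topologicalKrullDim X ≤ 1 := (Groth.L19.topologicalKrullDim_le_of_isIntegralHom f).trans hdY.le
    -- `f` is open and closed, hence surjective
    have hsurj : Function.Surjective f := fun y => by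
      have hclo : IsClopen (Set.range f) := ⟨f.isClosedMap.isClosed_range, f.isOpenMap.isOpen_range⟩
      have := hclo.eq_univ ⟨_, ⟨genericPoint X, rfl⟩⟩
      exact Set.mem_range.1 (this.symm.subset (Set.mem_univ y))
    obtain ⟨y, hy, hyc⟩ : ∃ y : Y, y ≠ genericPoint Y ∧ True := by
      obtain ⟨y, -, hy⟩ := (isClosed_univ (X := Y)).exists_closed_singleton Set.univ_nonempty
      exact ⟨y, Groth.L21.RR.ne_genericPoint_of_isClosed hdY hy, trivial⟩
    obtain ⟨x, rfl⟩ := hsurj y
    refine Groth.L21.RR.dim_eq_one_of_ne hle (z := x) fun h => hy ?_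
    obtain ⟨a, ha⟩ := hsurj (genericPoint Y)
    refine ((specializes_iff_mem_closure.2 ?_ : f x ⤳ genericPoint Y).antisymm
      ((genericPoint_spec Y).specializes trivial)).eq
    rw [← ha, h]
    exact (((genericPoint_spec X).specializes trivial).map f.continuous).mem_closure
  have hX0 : Module.finrank k (Coh.HH X (Coh.structureModule X) 0) = 1 :=
    Groth.L21.RR.h0_eq_one_of_geometricallyIntegral k hdX
  have hY0 : Module.finrank k (Coh.HH Y (Coh.structureModule Y) 0) = 1 := by
    have hbij := Groth.L16.ProjSpace.toGlobal_bijective (n := 1) (R := k)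
    have hne : (Groth.L21.RR.e0 (Coh.structureModule Y)).symm (Groth.L21.RR.oneSec Y) ≠ 0 := fun h => by
      have h1 : Groth.L21.RR.oneSec Y = 0 :=
        (Groth.L21.RR.e0 _).symm.injective (h.trans (map_zero _).symm)
      haveI : Nonempty ((⊤ : Y.Opens) : Scheme) := ⟨⟨genericPoint Y, trivial⟩⟩
      exact one_ne_zero (α := Γ(Y, ⊤)) h1
    refine finrank_eq_one _ hne fun w => ?_
    obtain ⟨c, hc⟩ := hbij.2 (show Γ(Y, ⊤) from Groth.L21.RR.e0 (Coh.structureModule Y) w)
    refine ⟨c, (Groth.L21.RR.e0 (Coh.structureModule Y)).injective ?_⟩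
    rw [Groth.L21.RR.e0_smul, AddEquiv.apply_symm_apply]
    exact (mul_one (M := Γ(Y, ⊤)) _).trans hc
  have hgY : Curv2.genus k Y = 0 := by
    haveI := Groth.L21.RR.subsingleton_h1_of_iso (X := Y) k (Iso.refl _) (Category.id_comp _)
    exact Module.finrank_zero_of_subsingleton
  exact isIso_of_etale_genus_zero k hdX.le hdY hX0 hY0 f rfl hgY

end Groth.L21.Disc
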