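import Groth.Agent.L21.RR.Finite
import Groth.Agent.L22.Cyc.CurveDeg
import Groth.Agent.L22.Cyc.FiniteDeg
import Groth.Prelude.Def_Curv2

/-!
Global sections of coherent modules supported at finitely many closed points.
-/

set_option autoImplicit false
set_option backward.isDefEq.respectTransparency false
set_option linter.style.haveILetI false
universe u

open CategoryTheory AlgebraicGeometry TopologicalSpace Opposite IsLocalRing
attribute [local instance] Curv2.resAlgebra

noncomputable section

namespace Groth.L21.Disc

open Groth.L21.RR (SuppClosed h e0 e0_smul exists_section_of_finite germ_ext)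

variable {X : Scheme.{u}} (k : Type u) [Field k] [X.Over (Spec (CommRingCat.of k))]
  [IsProper (X ↘ Spec (CommRingCat.of k))]

set_option maxHeartbeats 800000 in
/-- `h⁰` of a coherent module supported at finitely many closed points. -/
theorem h0_eq_sum_length {M : X.Modules} (hM : Coh.IsCoh M) (F : Finset X)
    (hF : ∀ x ∈ F, IsClosed ({x} : Set X)) (hM0 : ∀ x ∉ F, Subsingleton (M.presheaf.stalk x)) :
    h k 0 M = ∑ x ∈ F, (Module.length (X.presheaf.stalk x) (M.presheaf.stalk x)).toNat *
      Module.finrank k (X.residueField x) := by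
  classical
  haveI := Groth.L21.RR.isNoetherian_of_proper (X := X) k
  have hs : SuppClosed M := fun x hx => hM0 x fun hxF => hx (hF x hxF)
  let sk := fun x : X => Groth.L22.Cyc.baseHom k (X ↘ Spec (CommRingCat.of k)) x
  letI algk : ∀ x : X, Algebra k (X.presheaf.stalk x) := fun x => (sk x).toAlgebra
  letI modk : ∀ x : X, Module k (M.presheaf.stalk x) := fun x => Module.compHom _ (sk x)
  haveI : ∀ x : X, IsScalarTower k (X.presheaf.stalk x) (M.presheaf.stalk x) := fun x =>
    IsScalarTower.of_algebraMap_smul fun r m => rfl
  haveI := Groth.L21.RR.finite_HH' k hM 0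
  let L : Coh.HH X M 0 →ₗ[k] ∀ i : F, M.presheaf.stalk i.1 :=
    { toFun := fun a i => M.presheaf.germ ⊤ i.1 trivial (e0 M a)
      map_add' := fun a b => funext fun i => by rw [map_add, map_add]; rfl
      map_smul' := fun c a => funext fun i => by
        rw [e0_smul k M, Groth.L20.ModStalk.germ_smul]
        rfl }
  have hL : Function.Bijective L := by
    refine ⟨(injective_iff_map_eq_zero L).2 fun a ha => (e0 M).injective (germ_ext fun x _ => ?_), fun v => ?_⟩
    · by_cases hx : x ∈ F
      · rw [map_zero, map_zero]
        exact congrFun ha ⟨x, hx⟩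
      · haveI := hM0 x hx
        exact Subsingleton.elim _ _
    · obtain ⟨s, hs'⟩ := exists_section_of_finite hs (fun x => if hx : x ∈ F then v ⟨x, hx⟩ else 0) F
        fun x hx => dif_neg hx
      refine ⟨(e0 M).symm s, funext fun i => ?_⟩
      show M.presheaf.germ ⊤ i.1 trivial (e0 M ((e0 M).symm s)) = v i
      rw [AddEquiv.apply_symm_apply, hs', dif_pos i.2]
  haveI : Module.Finite k (∀ i : F, M.presheaf.stalk i.1) :=
    Module.Finite.of_surjective L hL.2
  haveI : ∀ i : F, Module.Finite k (M.presheaf.stalk i.1) := fun i =>
    Module.Finite.of_surjective (LinearMap.proj (R := k) (φ := fun j : F => M.presheaf.stalk j.1) i)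
      (LinearMap.proj_surjective i)
  show Module.finrank k (Coh.HH X M 0) = _
  rw [(LinearEquiv.ofBijective L hL).finrank_eq, Module.finrank_pi_fintype, ← F.sum_coe_sort]
  refine Finset.sum_congr rfl fun i _ => ?_
  haveI : IsLocalHom (algebraMap k (X.presheaf.stalk i.1)) :=
    ⟨fun a ha => isUnit_iff_ne_zero.2 fun h => not_isUnit_zero (M₀ := X.presheaf.stalk i.1) (by
      rwa [h, map_zero] at ha)⟩
  have hl := IsLocalRing.length_restrictScalars k (X.presheaf.stalk i.1) (M.presheaf.stalk i.1)
  rw [← Module.length_eq_of_surjective (R := ResidueField k) (S := k)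
      (M := ResidueField (X.presheaf.stalk i.1)) IsLocalRing.residue_surjective,
    Module.length_eq_finrank] at hl
  have h2 := congrArg ENat.toNat hl
  rw [ENat.toNat_natCast, ENat.toNat_mul] at h2
  haveI : LocallyOfFiniteType (X ↘ Spec (CommRingCat.of k)) := inferInstance
  rw [h2]
  have h3 : (Module.length k (ResidueField (X.presheaf.stalk i.1))).toNat =
      Module.finrank k (X.residueField i.1) := by
    show _ = Module.finrank k (ResidueField (X.presheaf.stalk i.1))
    by_cases hfin : Module.Finite k (ResidueField (X.presheaf.stalk i.1))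
    · rw [Module.length_eq_finrank, ENat.toNat_natCast]
    · rw [Module.finrank_of_not_finite hfin, ENat.toNat_eq_zero]
      exact Or.inr (by rw [← not_ne_iff, Module.length_ne_top_iff]; exact fun h => hfin (by haveI := (isFiniteLength_iff_isNoetherian_isArtinian.1 h).1; infer_instance))
  rw [← h3, mul_comm]

end Groth.L21.Disc
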