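import Mathlib.RingTheory.Trace.Basic
import Mathlib.LinearAlgebra.Matrix.Nondegenerate
import Mathlib.RingTheory.Localization.Integral

/-!
Trace matrices under change of rings carrying bases to bases.
-/

set_option autoImplicit false
set_option linter.style.haveILetI false
universe u

open Module

namespace Groth.L21.Disc

variable {R R' A A' : Type*} [CommRing R] [CommRing R'] [CommRing A] [CommRing A'] [Algebra R A]
  [Algebra R' A'] (ρ : R →+* R') (σ : A →+* A')
  (hc : ∀ r, σ (algebraMap R A r) = algebraMap R' A' (ρ r)) {ι : Type*} [Fintype ι]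
  (b : Basis ι R A) (b' : Basis ι R' A') (hb : ∀ i, b' i = σ (b i))

include hc hb

theorem repr_map (z : A) (i : ι) : b'.repr (σ z) i = ρ (b.repr z i) := by
  have h : σ z = ∑ j, ρ (b.repr z j) • b' j := by
    conv_lhs => rw [← b.sum_repr z]
    simp [map_sum, Algebra.smul_def, hc, hb]
  rw [h, b'.repr_sum_self]

theorem trace_map (z : A) : Algebra.trace R' A' (σ z) = ρ (Algebra.trace R A z) := by
  classical
  rw [Algebra.trace_eq_matrix_trace b', Algebra.trace_eq_matrix_trace b]
  simp only [Matrix.trace, Matrix.diag, map_sum, Algebra.leftMulMatrix_eq_repr_mul]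
  refine Finset.sum_congr rfl fun i _ => ?_
  rw [hb, ← map_mul, repr_map ρ σ hc b b' hb]

theorem map_traceMatrix : Algebra.traceMatrix R' b' = (Algebra.traceMatrix R b).map ρ := by
  ext i j
  simp only [Algebra.traceMatrix_apply, Matrix.map_apply, Algebra.traceForm_apply]
  rw [hb, hb, ← map_mul, trace_map ρ σ hc b b' hb]

omit hc hb in
/-- The trace matrix of a change of basis. -/
theorem det_traceMatrix_change [DecidableEq ι] (s : ι → A) (e : ι → A) (T : Matrix ι ι R)
    (hs : ∀ i, s i = ∑ j, T i j • e j) :
    (Algebra.traceMatrix R s).det = T.det ^ 2 * (Algebra.traceMatrix R e).det := by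
  have h : s = Matrix.mulVec (T.map (algebraMap R A)) e := by
    funext i
    rw [hs i]
    simp [Matrix.mulVec, dotProduct, Algebra.smul_def]
  rw [h, Algebra.traceMatrix_of_matrix_mulVec, Matrix.det_mul, Matrix.det_mul, Matrix.det_transpose]
  ring

omit hc hb in
/-- The discriminant of a finite free extension of domains with separable fraction field extension is
nonzero. -/
theorem det_traceMatrix_ne_zero {R A : Type*} [CommRing R] [IsDomain R] [CommRing A] [IsDomain A]
    [Algebra R A] [Module.Finite R A] (hinj : Function.Injective (algebraMap R A))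
    {ι : Type*} [Fintype ι] [DecidableEq ι] (b : Basis ι R A)
    (K L : Type*) [Field K] [Field L] [Algebra R K] [IsFractionRing R K] [Algebra A L]
    [IsFractionRing A L] [Algebra K L] [Algebra R L] [IsScalarTower R A L] [IsScalarTower R K L]
    [Algebra.IsSeparable K L] : (Algebra.traceMatrix R b).det ≠ 0 := by
  haveI : FaithfulSMul R A := (faithfulSMul_iff_algebraMap_injective R A).2 hinj
  haveI : Algebra.IsIntegral R A := inferInstance
  haveI : IsLocalization (Algebra.algebraMapSubmonoid A (nonZeroDivisors R)) L :=
    IsLocalization.iff_of_le_of_exists_dvd _ _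
      (Submonoid.map_le_iff_le_comap.2 fun r hr => Submonoid.mem_comap.2 <| mem_nonZeroDivisors_of_ne_zero
        ((map_ne_zero_iff _ hinj).2 (nonZeroDivisors.ne_zero hr)))
      (fun a ha => by
        obtain ⟨r, hr, hdvd⟩ := IsAlgebraic.exists_nonzero_dvd (R := R)
          (IsIntegral.isAlgebraic (Algebra.IsIntegral.isIntegral a)) ha
        exact ⟨_, ⟨r, mem_nonZeroDivisors_of_ne_zero hr, rfl⟩, hdvd⟩) |>.2 inferInstance
  let bL : Basis ι K L := b.localizationLocalization K (nonZeroDivisors R) L
  haveI : FiniteDimensional K L := Module.Finite.of_basis bL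
  have h := map_traceMatrix (algebraMap R K) (algebraMap A L)
    (fun r => by rw [← IsScalarTower.algebraMap_apply, ← IsScalarTower.algebraMap_apply]) b bL
    (fun i => b.localizationLocalization_apply K (nonZeroDivisors R) L i)
  intro h0
  refine det_traceForm_ne_zero bL ?_
  rw [← Algebra.traceMatrix_of_basis, h]
  exact (RingHom.map_det (algebraMap R K) _).symm.trans (by rw [h0, map_zero])

end Groth.L21.Disc
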