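import Groth.Agent.L21.Disc.DegOrd
import Groth.Agent.L21.Disc.TraceAlg
import Groth.Agent.L21.RR.BirationalGenus
import Groth.Agent.L20.ResDescent
import Groth.Agent.L22.CurveDeg.Det.ExtPow

/-!
The degree of the direct image of the structure sheaf of a finite locally free cover of a curve.
-/

set_option autoImplicit false
set_option backward.isDefEq.respectTransparency false
set_option linter.style.haveILetI false
universe u

open CategoryTheory CategoryTheory.Limits AlgebraicGeometry TopologicalSpace Opposite Module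

noncomputable section

namespace Groth.L21.Disc

open Groth.L22.CurveDeg.Det (IsBasisS exists_affine_basis)
open Groth.L18.Frame (rs ro rs_rs rs_self)
open Groth.L20.ModStalk (germ_smul germ_rs)

variable {X Y : Scheme.{u}} (f : X ⟶ Y)

/-- The direct image of the structure sheaf. -/
abbrev pushO : Y.Modules := (Scheme.Modules.pushforward f).obj (Coh.structureModule X)

/-- The algebra of sections over an open of the base. -/
abbrev secAlg (U : Y.Opens) : Algebra Γ(Y, U) Γ(X, f ⁻¹ᵁ U) := (f.app U).hom.toAlgebra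

/-- The discriminant of a family of sections. -/
def disc {n : ℕ} {U : Y.Opens} (e : Fin n → Γ(pushO f, U)) : Γ(Y, U) :=
  letI := secAlg f U
  (Algebra.traceMatrix (B := Γ(X, f ⁻¹ᵁ U)) Γ(Y, U) fun i => (e i : Γ(X, f ⁻¹ᵁ U))).det

/-- The linear map of coordinates. -/
def combo {n : ℕ} {U : Y.Opens} (e : Fin n → Γ(pushO f, U)) :
    letI := secAlg f U
    (Fin n → Γ(Y, U)) →ₗ[Γ(Y, U)] Γ(X, f ⁻¹ᵁ U) :=
  letI := secAlg f U
  Fintype.linearCombination Γ(Y, U) fun i => (e i : Γ(X, f ⁻¹ᵁ U))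

theorem combo_bijective {n : ℕ} {U : Y.Opens} {e : Fin n → Γ(pushO f, U)} (he : IsBasisS (pushO f) e) :
    Function.Bijective (combo f e) := by
  letI := secAlg f U
  have h := he U le_rfl
  refine (congrArg Function.Bijective (funext fun r => ?_)).mp h
  simp only [rs_self, combo, Fintype.linearCombination_apply]

/-- A frame gives a basis of the sections. -/
def toBasis {n : ℕ} {U : Y.Opens} {e : Fin n → Γ(pushO f, U)} (he : IsBasisS (pushO f) e) :
    letI := secAlg f U
    Basis (Fin n) Γ(Y, U) Γ(X, f ⁻¹ᵁ U) :=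
  letI := secAlg f U
  Basis.ofEquivFun (LinearEquiv.ofBijective (combo f e) (combo_bijective f he)).symm

theorem toBasis_apply {n : ℕ} {U : Y.Opens} {e : Fin n → Γ(pushO f, U)} (he : IsBasisS (pushO f) e)
    (i : Fin n) : toBasis f he i = (e i : Γ(X, f ⁻¹ᵁ U)) := by
  classical
  letI := secAlg f U
  rw [toBasis, Basis.coe_ofEquivFun]
  show combo f e (Pi.single i 1) = _
  rw [combo, Fintype.linearCombination_apply_single, one_smul]

theorem disc_eq {n : ℕ} {U : Y.Opens} {e : Fin n → Γ(pushO f, U)} (he : IsBasisS (pushO f) e) :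
    disc f e = letI := secAlg f U; (Algebra.traceMatrix Γ(Y, U) (toBasis f he)).det := by
  rw [disc, funext (toBasis_apply f he)]

theorem ro_disc {n : ℕ} {U V : Y.Opens} (h : V ≤ U) {e : Fin n → Γ(pushO f, U)}
    (he : IsBasisS (pushO f) e) : ro h (disc f e) = disc f fun i => rs (pushO f) h (e i) := by
  letI := secAlg f U
  letI := secAlg f V
  let ρ : Γ(Y, U) →+* Γ(Y, V) := (Y.presheaf.map (homOfLE h).op).hom
  let σ : Γ(X, f ⁻¹ᵁ U) →+* Γ(X, f ⁻¹ᵁ V) := (X.presheaf.map (homOfLE (f.preimage_mono h)).op).hom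
  have hc : ∀ r, σ (algebraMap Γ(Y, U) Γ(X, f ⁻¹ᵁ U) r) = algebraMap Γ(Y, V) Γ(X, f ⁻¹ᵁ V) (ρ r) :=
    fun r => (congr($(f.naturality (homOfLE h).op) r)).symm
  have hb : ∀ i, toBasis f (he.mono h) i = σ (toBasis f he i) := fun i => by
    rw [toBasis_apply, toBasis_apply]
    rfl
  rw [disc_eq f he, disc_eq f (he.mono h), map_traceMatrix ρ σ hc _ _ hb]
  exact RingHom.map_det ρ _

variable [IsIntegral Y]

/-- Locally free modules on integral schemes have constant rank. -/
theorem exists_rank {E : Y.Modules} (hE : FlatMod.IsFinLocFree E) : ∃ n, FlatMod.IsFinLocFreeOfRank n E := by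
  have hstk : ∀ x : Y, ∃ (U : Y.Opens) (m : ℕ), x ∈ U ∧ Nonempty (E.restrict U.ι ≅ FlatMod.freeMod (↑U) m) ∧
      Nonempty ((Fin m → Y.presheaf.stalk (genericPoint Y)) ≃ₗ[Y.presheaf.stalk (genericPoint Y)]
        E.presheaf.stalk (genericPoint Y)) := by
    intro x
    obtain ⟨U, m, hx, ⟨i⟩⟩ := hE x
    obtain ⟨s, hs⟩ := Groth.L17.FinLocBases.exists_isBasis E i
    have hU : U.ι ''ᵁ ⊤ = U := (Scheme.Hom.image_top_eq_opensRange U.ι).trans U.opensRange_ι
    have hη : genericPoint Y ∈ U.ι ''ᵁ ⊤ :=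
      ((genericPoint_spec Y).specializes trivial).mem_open (U.ι ''ᵁ ⊤).2 (hU.symm ▸ hx)
    have hb := IsBasisS.stalk (E := E) (e := s) (fun V h => hs V (homOfLE h)) _ hη
    exact ⟨U, m, hx, ⟨i⟩, ⟨LinearEquiv.ofBijective (Fintype.linearCombination (Y.presheaf.stalk (genericPoint Y))
      fun j => E.presheaf.germ (U.ι ''ᵁ ⊤) (genericPoint Y) hη (s j)) hb⟩⟩
  obtain ⟨-, n, -, -, ⟨e₀⟩⟩ := hstk (genericPoint Y)
  refine ⟨n, fun x => ?_⟩
  obtain ⟨U, m, hx, hi, ⟨e₁⟩⟩ := hstk x
  obtain rfl : m = n := by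
    have h := (e₁.trans e₀.symm).finrank_eq
    rwa [Module.finrank_fin_fun, Module.finrank_fin_fun] at h
  exact ⟨U, hx, hi⟩

variable (k : Type u) [Field k] [Y.Over (Spec (CommRingCat.of k))] [IsProper (Y ↘ Spec (CommRingCat.of k))]

/-- `2 deg f_* O_X` is minus the degree of the discriminant. -/
theorem exists_two_mul_deg_push (hd : topologicalKrullDim Y = 1) {n : ℕ}
    (hE : FlatMod.IsFinLocFreeOfRank n (pushO f))
    (hne : ∀ (U : Y.Opens) (e : Fin n → Γ(pushO f, U)), IsAffineOpen U → IsBasisS (pushO f) e →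
      (U : Set Y).Nonempty → disc f e ≠ 0) :
    ∃ (δ : ∀ y : Y, Y.presheaf.stalk y) (T : Finset Y),
      (∀ y : Y, ∃ (U : Y.Opens) (e : Fin n → Γ(pushO f, U)) (hy : y ∈ U), IsAffineOpen U ∧
        IsBasisS (pushO f) e ∧ δ y = Y.presheaf.germ U y hy (disc f e)) ∧
      (∀ y ∈ T, IsClosed ({y} : Set Y)) ∧
      (∀ y : Y, IsClosed ({y} : Set Y) → y ∉ T → IsUnit (δ y)) ∧
      2 * Curv2.deg k Y (pushO f) n = - ∑ y ∈ T, ((Ring.ord (Y.presheaf.stalk y) (δ y)).toNat : ℤ) *
        ((Y ↘ Spec (CommRingCat.of k)).residueDegree y : ℤ) := by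
  classical
  haveI := Groth.L21.RR.isNoetherian_of_proper (X := Y) k
  choose U e hy _ he using fun y : Y => exists_affine_basis hE y ⊤ trivial
  obtain ⟨W, s, hηW, -, hs⟩ := exists_affine_basis hE (genericPoint Y) ⊤ trivial
  let δ : ∀ y : Y, Y.presheaf.stalk y := fun y => Y.presheaf.germ (U y).1 y (hy y) (disc f (e y))
  let D : Y.functionField := Y.presheaf.germ W.1 (genericPoint Y) hηW (disc f s)
  have hD : D ≠ 0 := fun h => hne W.1 s W.2 hs ⟨_, hηW⟩
    (germ_injective_of_isIntegral Y _ hηW (h.trans (map_zero _).symm))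
  obtain ⟨T, hT1, hT2, hT3⟩ := exists_two_mul_deg_eq k hd hE W.1 hηW s D hD δ fun x =>
    ⟨(U x).1, e x, hy x, fun y hy' => (he x).stalk y hy', fun hηV S hS => by
      let η := genericPoint Y
      obtain ⟨_, ⟨V, hVa, rfl⟩, hηV', hVle⟩ := Y.isBasis_affineOpens.exists_subset_of_mem_open
        (show η ∈ W.1 ⊓ (U x).1 from ⟨hηW, hηV⟩) (W.1 ⊓ (U x).1).2
      change Y.Opens at V
      have hVW : V ≤ W.1 := fun y hy' => (hVle hy').1
      have hVU : V ≤ (U x).1 := fun y hy' => (hVle hy').2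
      choose T hT using fun i => (he x V hVU).2 (rs (pushO f) hVW (s i))
      have hST : S = (Y.presheaf.germ V η hηV').hom.mapMatrix (Matrix.of T) := by
        refine funext fun i => ((he x).stalk η hηV).1 ?_
        refine (hS i).symm.trans ?_
        rw [← germ_rs (M := pushO f) hVW hηV' (s i), ← hT i, map_sum]
        refine Finset.sum_congr rfl fun j _ => ?_
        rw [germ_smul, germ_rs]
        rfl
      have h1 : D = Y.presheaf.germ V η hηV' (disc f fun i => rs (pushO f) hVW (s i)) := by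
        rw [← ro_disc f hVW hs]
        exact (Y.presheaf.germ_res_apply (homOfLE hVW) η hηV' _).symm
      have h2 : algebraMap (Y.presheaf.stalk x) Y.functionField (δ x) =
          Y.presheaf.germ V η hηV' (disc f fun i => rs (pushO f) hVU (e x i)) := by
        rw [← ro_disc f hVU (he x)]
        refine Eq.trans ?_ (Y.presheaf.germ_res_apply (homOfLE hVU) η hηV' _).symm
        exact TopCat.Presheaf.germ_stalkSpecializes_apply Y.presheaf (hy x) _ _
      rw [h1, h2, hST, ← RingHom.map_det, ← map_pow, ← map_mul]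
      refine congrArg _ ?_
      letI := secAlg f V
      exact det_traceMatrix_change _ _ (Matrix.of T) fun i => (hT i).symm⟩
  exact ⟨δ, T, fun y => ⟨(U y).1, e y, hy y, (U y).2, he y, rfl⟩, hT1, hT2, hT3⟩

end Groth.L21.Disc
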