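import Groth.Agent.L22.CurveDeg.Det.Points
import Groth.Agent.L22.Cyc.CurveDeg
import Groth.Agent.L21.RR.Finite
import Groth.Agent.L21.RR.Equality
import Groth.Prelude.Def_ResDeg

/-!
The Euler characteristic of the structure module of a closed point is the degree of the point.
-/

set_option autoImplicit false
set_option backward.isDefEq.respectTransparency false
set_option linter.style.haveILetI false
universe u

open CategoryTheory CategoryTheory.Limits AlgebraicGeometry TopologicalSpace Opposite IsLocalRing

noncomputable section

namespace Groth.L21.Disc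

open Groth.L16.CohSupport (len len_eq_zero_iff)
open Groth.L21.RR (SuppClosed h e0 e0_smul cstAt)

variable {X : Scheme.{u}} (k : Type u) [Field k] [X.Over (Spec (CommRingCat.of k))]
  [IsProper (X ↘ Spec (CommRingCat.of k))]

theorem ptEuler_eq_residueDegree {y : X} (hy : IsClosed ({y} : Set X)) :
    Groth.L22.CurveDeg.Det.ptEuler k y = ((X ↘ Spec (CommRingCat.of k)).residueDegree y : ℤ) := by
  haveI := Groth.L21.RR.isNoetherian_of_proper (X := X) k
  let Z := (Groth.L16.CohClosedPush.exists_integral y).choose
  let i : Z ⟶ X := (Groth.L16.CohClosedPush.exists_integral y).choose_spec.choose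
  obtain ⟨hi, hZ, hgen, hrange⟩ := (Groth.L16.CohClosedPush.exists_integral y).choose_spec.choose_spec
  haveI : IsLocallyNoetherian Z := LocallyOfFiniteType.isLocallyNoetherian i
  let M := (Coh.push i).obj (Coh.structureModule Z)
  have hsupp : CohB1.support M ⊆ {y} :=
    ((Groth.L16.CohClosedPush.support_push_subset i _).trans hrange.le).trans hy.closure_eq.le
  have hs : SuppClosed M := fun x hx => not_not.1 fun hn => hx ((hsupp hn : x = y) ▸ hy)
  have hlen : len y M = 1 := by
    have h1 := Groth.L16.CohClosedPush.len_push_structure i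
    rwa [hgen] at h1
  show Curv2.euler k X M = _
  rw [Groth.L21.RR.euler_eq_h0_of_suppClosed k hs, Int.natCast_inj]
  haveI : IsSimpleModule (X.presheaf.stalk y) (M.presheaf.stalk y) := Module.length_eq_one_iff.1 hlen
  haveI : Nontrivial (M.presheaf.stalk y) := IsSimpleModule.nontrivial (X.presheaf.stalk y) _
  obtain ⟨v, hv⟩ := exists_ne (0 : M.presheaf.stalk y)
  let R := X.presheaf.stalk y
  let T : R →ₗ[R] M.presheaf.stalk y := LinearMap.toSpanSingleton R _ v
  have hT : Function.Surjective T := IsSimpleModule.toSpanSingleton_surjective R hv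
  have hker : LinearMap.ker T = maximalIdeal R := by
    haveI : IsSimpleModule R (R ⧸ LinearMap.ker T) :=
      IsSimpleModule.congr (T.quotKerEquivOfSurjective hT)
    exact eq_maximalIdeal (Ideal.isMaximal_def.2 (isSimpleModule_iff_isCoatom.1 inferInstance))
  let θ : ResidueField R ≃ₗ[R] M.presheaf.stalk y :=
    (Submodule.quotEquivOfEq _ _ hker.symm).trans (T.quotKerEquivOfSurjective hT)
  let γ : Γ(M, ⊤) →+ M.presheaf.stalk y := (M.presheaf.germ ⊤ y trivial).hom
  have hγ : Function.Bijective γ := by
    refine ⟨fun s t hst => Groth.L21.RR.germ_ext fun x hx => ?_, fun w => ?_⟩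
    · by_cases hxy : x = y
      · subst hxy; exact hst
      · haveI : Subsingleton (M.presheaf.stalk x) := not_not.1 fun hn => hxy (hsupp hn)
        exact Subsingleton.elim _ _
    · obtain ⟨s, hs', -⟩ := Groth.L21.RR.exists_section_germ hs y w
      exact ⟨s, hs'⟩
  letI : Algebra k R := (Groth.L22.Cyc.baseHom k (X ↘ Spec (CommRingCat.of k)) y).toAlgebra
  let e : Coh.HH X M 0 ≃ₗ[k] ResidueField R :=
    LinearEquiv.symm
    { toFun := fun r => (e0 M).symm ((AddEquiv.ofBijective γ hγ).symm (θ r))
      map_add' := fun a b => by rw [map_add, map_add, map_add]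
      map_smul' := fun c r => by
        apply (e0 M).injective
        apply hγ.1
        simp only [RingHom.id_apply, AddEquiv.apply_symm_apply, e0_smul]
        show γ _ = γ _
        rw [show γ ((AddEquiv.ofBijective γ hγ).symm (θ (c • r))) = θ (c • r) from
          (AddEquiv.ofBijective γ hγ).apply_symm_apply _]
        refine Eq.trans ?_ (Groth.L20.ModStalk.germ_smul M (U := ⊤) (x := y) trivial _ _).symm
        rw [show γ ((AddEquiv.ofBijective γ hγ).symm (θ r)) = θ r from
          (AddEquiv.ofBijective γ hγ).apply_symm_apply _, ← LinearEquiv.map_smul]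
        refine congrArg θ ?_
        rw [Algebra.smul_def, Algebra.smul_def, IsScalarTower.algebraMap_apply k R (ResidueField R)]
        rfl
      invFun := fun z => θ.symm (γ (e0 M z))
      left_inv := fun r => by
        simp only [AddEquiv.apply_symm_apply]
        rw [show γ ((AddEquiv.ofBijective γ hγ).symm (θ r)) = θ r from
          (AddEquiv.ofBijective γ hγ).apply_symm_apply _, LinearEquiv.symm_apply_apply]
      right_inv := fun z => by
        show (e0 M).symm ((AddEquiv.ofBijective γ hγ).symm (θ (θ.symm (γ (e0 M z))))) = z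
        rw [LinearEquiv.apply_symm_apply,
          show (AddEquiv.ofBijective γ hγ).symm (γ (e0 M z)) = e0 M z from
            (AddEquiv.ofBijective γ hγ).symm_apply_apply _, AddEquiv.symm_apply_apply] }
  show Module.finrank k (Coh.HH X M 0) = _
  rw [e.finrank_eq]
  exact Groth.L22.Cyc.finrank_residueField_eq k (X ↘ Spec (CommRingCat.of k)) y

end Groth.L21.Disc
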