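import Groth.Agent.L15.OmegaCoh
import Groth.Agent.L20.ModStalk
import Mathlib.RingTheory.Kaehler.TensorProduct
import Mathlib.RingTheory.Unramified.Basic
import Mathlib.RingTheory.Etale.Kaehler
import Mathlib.RingTheory.Length

/-!
Stalks of the sheaf of differentials.
-/

set_option autoImplicit false
set_option backward.isDefEq.respectTransparency false
set_option linter.style.haveILetI false
universe u

open CategoryTheory AlgebraicGeometry TopologicalSpace
open scoped TensorProduct

noncomputable section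

namespace Groth.L21.Disc

/-- Differentials over a localization of the base. -/
theorem bijective_map_of_unramified {R A O : Type u} [CommRing R] [CommRing A] [CommRing O] [Algebra R A] [Algebra R O]
    [Algebra A O] [IsScalarTower R A O] [Algebra.FormallyUnramified R A] :
    Function.Bijective (KaehlerDifferential.map R A O O) := by
  refine ⟨(injective_iff_map_eq_zero _).2 fun z hz => ?_, KaehlerDifferential.map_surjective R A O⟩
  obtain ⟨t, rfl⟩ := ((KaehlerDifferential.exact_mapBaseChange_map R A O) z).1 hz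
  haveI : Subsingleton (Ω[A⁄R]) := inferInstance
  rw [Subsingleton.elim t 0, map_zero]

/-- The stalk of the sheaf of differentials is the module of differentials of the local rings. -/
theorem nonempty_stalk_omega {X Y : Scheme.{u}} (f : X ⟶ Y) [QuasiSeparated f] [LocallyOfFiniteType f] (x : X) :
    letI := (f.stalkMap x).hom.toAlgebra
    Nonempty (KaehlerDifferential (Y.presheaf.stalk (f x)) (X.presheaf.stalk x) ≃ₗ[X.presheaf.stalk x]
      (Omega.sheaf f).presheaf.stalk x) := by
  letI := (f.stalkMap x).hom.toAlgebra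
  obtain ⟨U, hU, hxU, -⟩ := exists_isAffineOpen_mem_and_subset (x := f x) (U := ⊤) trivial
  obtain ⟨V, hV, hxV, hle⟩ := exists_isAffineOpen_mem_and_subset (x := x) (U := f ⁻¹ᵁ U) hxU
  have e : V ≤ f ⁻¹ᵁ U := fun y hy => hle hy
  letI algRS : Algebra Γ(Y, U) Γ(X, V) := (f.appLE U V e).hom.toAlgebra
  letI := Y.presheaf.algebra_section_stalk (⟨f x, hxU⟩ : U)
  letI := X.presheaf.algebra_section_stalk (⟨x, hxV⟩ : V)
  haveI := hU.isLocalization_stalk ⟨f x, hxU⟩
  haveI := hV.isLocalization_stalk ⟨x, hxV⟩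
  letI algRO : Algebra Γ(Y, U) (X.presheaf.stalk x) :=
    ((algebraMap Γ(X, V) (X.presheaf.stalk x)).comp (algebraMap Γ(Y, U) Γ(X, V))).toAlgebra
  haveI : IsScalarTower Γ(Y, U) Γ(X, V) (X.presheaf.stalk x) := IsScalarTower.of_algebraMap_eq' rfl
  haveI : IsScalarTower Γ(Y, U) (Y.presheaf.stalk (f x)) (X.presheaf.stalk x) :=
    IsScalarTower.of_algebraMap_eq fun r => by
      show X.presheaf.germ V x hxV (f.appLE U V e r) = f.stalkMap x (Y.presheaf.germ U (f x) hxU r)
      rw [Scheme.Hom.germ_stalkMap_apply]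
      exact X.presheaf.germ_res_apply (homOfLE e) x hxV (f.app U r)
  haveI : Algebra.FormallyUnramified Γ(Y, U) (Y.presheaf.stalk (f x)) :=
    Algebra.FormallyUnramified.of_isLocalization (hU.primeIdealOf ⟨f x, hxU⟩).asIdeal.primeCompl
  haveI : Coh.IsQCoh (Omega.sheaf f) := (Groth.L15.OmegaCoh.isCoh_omega f).1
  obtain ⟨s⟩ := Groth.L15.OmegaCoh.exists_sections_equiv f hV hU e
  letI := Groth.L20.ModStalk.stalkModule (Omega.sheaf f) hxV
  haveI : IsScalarTower Γ(X, V) (X.presheaf.stalk x) ((Omega.sheaf f).presheaf.stalk x) :=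
    IsScalarTower.of_algebraMap_smul fun r m => rfl
  let P := (hV.primeIdealOf ⟨x, hxV⟩).asIdeal.primeCompl
  haveI := Groth.L20.ModStalk.isLocalizedModule_germ (Omega.sheaf f) hV hxV
  let g : Ω[Γ(X, V)⁄Γ(Y, U)] →ₗ[Γ(X, V)] (Omega.sheaf f).presheaf.stalk x :=
    (Groth.L20.ModStalk.germₗ (Omega.sheaf f) hxV).comp s.toLinearMap
  haveI : IsLocalizedModule P g := IsLocalizedModule.of_linearEquiv_right P _ s
  let l := IsLocalizedModule.linearEquiv P
    (KaehlerDifferential.map Γ(Y, U) Γ(Y, U) Γ(X, V) (X.presheaf.stalk x)) g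
  let l' := l.extendScalarsOfIsLocalization P (X.presheaf.stalk x)
  exact ⟨(LinearEquiv.ofBijective _ (bijective_map_of_unramified (R := Γ(Y, U)) (A := Y.presheaf.stalk (f x))
    (O := X.presheaf.stalk x))).symm.trans l'⟩

end Groth.L21.Disc
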