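import Groth.Agent.L21.Disc.Hurwitz
import Groth.Agent.L21.Disc.OmegaStalk
import Groth.Agent.L21.Disc.SuppLength
import Groth.Agent.L21.RR.GeomGenusZero
import Mathlib.RingTheory.Etale.Field

/-!
The Riemann–Hurwitz formula in terms of the sheaf of relative differentials.
-/

set_option autoImplicit false
set_option backward.isDefEq.respectTransparency false
set_option linter.style.haveILetI false
universe u

open CategoryTheory CategoryTheory.Limits AlgebraicGeometry TopologicalSpace Opposite Module
attribute [local instance] Curv2.resAlgebra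

noncomputable section

namespace Groth.L21.Disc

variable {X Y : Scheme.{u}} (f : X ⟶ Y)

theorem IsLenSpec.of_overMap (x : X) (y : Y) (h : f x = y) {d : ℕ} (hd : IsLenSpec (overMap f x y h) d) :
    IsLenSpec (f.stalkMap x).hom d := by
  subst h
  exact IsLenSpec.congr (overMap_self f x) hd

theorem residueDegree_eq_finrank (x : X) (y : Y) (h : f x = y) (hy : IsField (Y.presheaf.stalk y))
    (hx : IsField (X.presheaf.stalk x)) :
    f.residueDegree x = (letI := (overMap f x y h).toAlgebra
      Module.finrank (Y.presheaf.stalk y) (X.presheaf.stalk x)) := by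
  subst h
  letI := hy.toField
  letI := hx.toField
  have key : ∀ ψ : Y.presheaf.stalk (f x) →+* X.presheaf.stalk x, (f.stalkMap x).hom = ψ →
      f.residueDegree x = (letI := ψ.toAlgebra
        Module.finrank (Y.presheaf.stalk (f x)) (X.presheaf.stalk x)) := by
    rintro ψ rfl
    letI := (f.stalkMap x).hom.toAlgebra
    letI : Algebra (Y.residueField (f x)) (X.residueField x) := (f.residueFieldMap x).hom.toAlgebra
    have hrY : Function.Bijective (Y.residue (f x)).hom :=
      ⟨(Y.residue (f x)).hom.injective, Y.residue_surjective (f x)⟩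
    have hrX : Function.Bijective (X.residue x).hom :=
      ⟨(X.residue x).hom.injective, X.residue_surjective x⟩
    exact (Algebra.finrank_eq_of_equiv_equiv (RingEquiv.ofBijective _ hrY) (RingEquiv.ofBijective _ hrX)
      (RingHom.ext fun a => congrArg (fun g => g.hom a) (Scheme.residue_residueFieldMap f x))).symm
  exact key _ (overMap_self f x).symm

variable [IsIntegral X] [IsIntegral Y]

theorem residueDegree_genericPoint (hdom : f (genericPoint X) = genericPoint Y) :
    f.residueDegree (genericPoint X) = (letI := ((Y.presheaf.stalkSpecializes (specializes_of_eq hdom) ≫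
      f.stalkMap (genericPoint X)).hom).toAlgebra
      Module.finrank Y.functionField X.functionField) :=
  residueDegree_eq_finrank f _ _ hdom (Field.toIsField Y.functionField) (Field.toIsField X.functionField)

theorem isLenSpec_genericPoint (hdom : f (genericPoint X) = genericPoint Y)
    (hsep : letI := ((Y.presheaf.stalkSpecializes (specializes_of_eq hdom) ≫
      f.stalkMap (genericPoint X)).hom).toAlgebra
      Algebra.IsSeparable Y.functionField X.functionField)
    [IsFinite f] : IsLenSpec (f.stalkMap (genericPoint X)).hom 0 := by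
  refine IsLenSpec.of_overMap f _ _ hdom ?_
  letI := ((Y.presheaf.stalkSpecializes (specializes_of_eq hdom) ≫
      f.stalkMap (genericPoint X)).hom).toAlgebra
  haveI := hsep
  show Module.length X.functionField (KaehlerDifferential Y.functionField X.functionField) = ((0 : ℕ) : ℕ∞)
  haveI : Algebra.FormallyEtale Y.functionField X.functionField := Algebra.FormallyEtale.of_isSeparable _ _
  rw [Nat.cast_zero]
  exact Module.length_eq_zero

variable (k : Type u) [Field k] [X.Over (Spec (CommRingCat.of k))] [Y.Over (Spec (CommRingCat.of k))]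
  [IsProper (X ↘ Spec (CommRingCat.of k))] [IsProper (Y ↘ Spec (CommRingCat.of k))] [IsFinite f]

/-- The Euler characteristic form of the Riemann–Hurwitz formula. -/
theorem euler_hurwitz_omega (hdX : topologicalKrullDim X = 1) (hdY : topologicalKrullDim Y = 1)
    (hnX : ∀ x : X, IsDomain (X.presheaf.stalk x) ∧ IsIntegrallyClosed (X.presheaf.stalk x))
    (hnY : ∀ y : Y, IsDomain (Y.presheaf.stalk y) ∧ IsIntegrallyClosed (Y.presheaf.stalk y))
    (hf : f ≫ (Y ↘ Spec (CommRingCat.of k)) = X ↘ Spec (CommRingCat.of k))
    (hdom : f (genericPoint X) = genericPoint Y)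
    (hsep : letI := ((Y.presheaf.stalkSpecializes (specializes_of_eq hdom) ≫
      f.stalkMap (genericPoint X)).hom).toAlgebra
      Algebra.IsSeparable Y.functionField X.functionField) :
    -2 * Curv2.euler k X (Coh.structureModule X) =
      -2 * (f.residueDegree (genericPoint X) : ℤ) * Curv2.euler k Y (Coh.structureModule Y) +
        (Module.finrank k (Coh.HH X (Omega.sheaf f) 0) : ℤ) := by
  classical
  obtain ⟨d, F, hFc, hspec, hF0, hmain⟩ := exists_hurwitz f k hdX hdY hnX hnY hf hdom hsep
  rw [hmain, residueDegree_genericPoint f hdom]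
  congr 1
  haveI := Groth.L21.RR.isNoetherian_of_proper (X := X) k
  have hlen : ∀ x : X, ∃ dx : ℕ, (x ∉ F → dx = 0) ∧ (x ∈ F → dx = d x) ∧
      Module.length (X.presheaf.stalk x) ((Omega.sheaf f).presheaf.stalk x) = (dx : ℕ∞) := by
    intro x
    letI := (f.stalkMap x).hom.toAlgebra
    obtain ⟨θ⟩ := nonempty_stalk_omega f x
    rw [← θ.length_eq]
    by_cases hx : IsClosed ({x} : Set X)
    · exact ⟨d x, hF0 x hx, fun _ => rfl, (hspec x hx).2⟩
    · obtain rfl := Groth.L21.RR.eq_genericPoint_of_not_isClosed hdX.le hx
      exact ⟨0, fun _ => rfl, fun h => absurd (hFc _ h) hx, isLenSpec_genericPoint f hdom hsep⟩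
  choose dx hdx0 hdx hl using hlen
  have h0 := h0_eq_sum_length k (Groth.L15.OmegaCoh.isCoh_omega f) F hFc fun x hx => by
    have := hl x
    rw [hdx0 x hx, Nat.cast_zero, Module.length_eq_zero_iff] at this
    exact this
  show _ = ((Groth.L21.RR.h k 0 (Omega.sheaf f) : ℕ) : ℤ)
  rw [h0]
  refine congrArg Nat.cast (Finset.sum_congr rfl fun x hx => ?_)
  rw [hl x, ENat.toNat_natCast, hdx x hx]

end Groth.L21.Disc
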