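import Groth.Agent.L22.CurveDeg.Det.Main
import Groth.Agent.L22.Cyc.OrdFrac
import Groth.Agent.L21.Disc.PtEuler

/-!
The degree of a locally free module on an integral curve as the sum of the orders of a rational frame,
and its expression through a quadratic discriminant.
-/

set_option autoImplicit false
set_option backward.isDefEq.respectTransparency false
set_option linter.style.haveILetI false
universe u

open CategoryTheory CategoryTheory.Limits AlgebraicGeometry TopologicalSpace Opposite

noncomputable section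

namespace Groth.L21.Disc

open Groth.L22.CurveDeg.Det
open Groth.L18.Frame (rs ro rs_rs rs_self rs_smul IsFrame)
open Groth.L18.GenLoc Groth.L18.Ample
open Groth.L16.CohSupport (len len_eq_zero_iff len_congr)
open Groth.L21.RR (st one SuppClosed bijective_germ_frame)
open Groth.L20.ModStalk (germ_smul germ_rs)

variable {X : Scheme.{u}} [IsIntegral X] [IsLocallyNoetherian X]

/-- The data at a point. -/
theorem local_data' {n : ℕ} {E P : X.Modules} (φ : Coh.structureModule X ⟶ P) (K : ℕ)
    (hη : genericPoint X ∈ CohB1.genLocus P φ)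
    (s : Fin n → Γ(E, CohB1.genLocus P φ))
    (t : Fin n → Γ(tw E P K, ⊤))
    (ht : ∀ i, rs (tw E P K) le_top (t i) = it (secOf φ) (CohB1.genLocus P φ) (s i) K)
    (x : X) [Ring.KrullDimLE 1 (X.presheaf.stalk x)]
    {V : X.Opens} (hx : x ∈ V) (hηV : genericPoint X ∈ V) (e : Fin n → Γ(E, V))
    (he : ∀ y (hy : y ∈ V), Function.Bijective
      fun a : Fin n → X.presheaf.stalk y => ∑ j, a j • E.presheaf.germ V y hy (e j))
    (p : Γ(P, V)) (hp : IsFrame P V p)
    (S : Matrix (Fin n) (Fin n) (X.presheaf.stalk (genericPoint X)))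
    (hS : ∀ i, E.presheaf.germ (CohB1.genLocus P φ) (genericPoint X) hη (s i) =
      ∑ j, S i j • E.presheaf.germ V (genericPoint X) hηV (e j))
    (hS0 : S.det ≠ 0) :
    (Function.Injective (st (desc fun i => Groth.L16.homOfSection _ (t i)) x) ∧
      Function.Injective (st (desc fun _ : Fin 1 => Groth.L16.homOfSection _
        (it (N := Coh.structureModule X) (secOf φ) ⊤ (Groth.L21.RR.oneSec X) K)) x)) ∧
    ∃ A d : X.presheaf.stalk x, A ≠ 0 ∧ d ≠ 0 ∧
      algebraMap (X.presheaf.stalk x) X.functionField A =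
        (algebraMap (X.presheaf.stalk x) X.functionField d) ^ n * S.det ∧
      len x (cokernel (desc fun i => Groth.L16.homOfSection _ (t i))) = Ring.ord (X.presheaf.stalk x) A ∧
      len x (cokernel (desc fun _ : Fin 1 => Groth.L16.homOfSection _
        (it (N := Coh.structureModule X) (secOf φ) ⊤ (Groth.L21.RR.oneSec X) K))) =
        Ring.ord (X.presheaf.stalk x) d := by
  classical
  obtain ⟨a, ha⟩ := hp.exists_coeff le_rfl (rs P le_top (secOf φ))
  rw [rs_self] at ha
  have hb : Groth.L17.LocBases.IsBasis (O := X.sheaf) (tw E P K) (fun j => fr (e j) p K) :=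
    Groth.L17.PullBasis.isBasis_of_stalk (tw E P K) (fun j => fr (e j) p K) fun y hy => by
      have h1 := (twEquiv E P hp hy K).bijective.comp (he y hy)
      refine (congrArg Function.Bijective (funext fun r => ?_)).mp h1
      simp only [Function.comp_apply, map_sum, map_smul, twEquiv_germ]
      rfl
  choose A₀ hA using fun i => (hb V (𝟙 V)).2 (rs (tw E P K) le_top (t i))
  let A : Fin n → Fin n → Γ(X, V) := A₀
  have hAy : ∀ (i : Fin n) (y : X) (hy : y ∈ V), (tw E P K).presheaf.germ ⊤ y trivial (t i) =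
      ∑ j, X.presheaf.germ V y hy (A i j) • (tw E P K).presheaf.germ V y hy (fr (e j) p K) := fun i y hy => by
    rw [← germ_rs (M := tw E P K) (le_top : V ≤ ⊤) hy (t i), ← hA i]
    exact Groth.L17.PullBasis.germ_res_sum (tw E P K) (fun j => fr (e j) p K) y hy (𝟙 V) (A₀ i)
  let u := it (N := Coh.structureModule X) (secOf φ) ⊤ (Groth.L21.RR.oneSec X) K
  let one' : Γ(Coh.structureModule X, V) := rs _ le_top (Groth.L21.RR.oneSec X)
  have hone : IsFrame (Coh.structureModule X) V one' := Groth.L21.RR.isFrame_oneSec.mono le_top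
  have hu : rs (tw (Coh.structureModule X) P K) (le_top : V ≤ ⊤) u = a ^ K • fr one' p K := by
    rw [it_rs]
    exact it_eq_smul_fr (secOf φ) ha one' K
  have hdy : ∀ (y : X) (hy : y ∈ V), (tw (Coh.structureModule X) P K).presheaf.germ ⊤ y trivial u =
      X.presheaf.germ V y hy (a ^ K) • (tw (Coh.structureModule X) P K).presheaf.germ V y hy (fr one' p K) :=
    fun y hy => by rw [← germ_rs (M := tw (Coh.structureModule X) P K) (le_top : V ≤ ⊤) hy u, hu, germ_smul]
  -- at the generic point
  let g : Γ(X, V) →+* X.presheaf.stalk (genericPoint X) := (X.presheaf.germ V (genericPoint X) hηV).hom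
  let V' := V ⊓ (CohB1.genLocus P φ)
  have hV' : (genericPoint X) ∈ V' := ⟨hηV, hη⟩
  let p' : Γ(P, V') := rs P inf_le_left p
  have hp' : IsFrame P V' p' := hp.mono _
  let a' : Γ(X, V') := ro (inf_le_left : V' ≤ V) a
  have ha' : a' • p' = rs P le_top (secOf φ) := by rw [← rs_smul, ha, rs_rs]
  have haK : X.presheaf.germ V' (genericPoint X) hV' (a' ^ K) = g (a ^ K) := by
    rw [map_pow, map_pow]
    exact congrArg (· ^ K) (X.presheaf.germ_res_apply _ (genericPoint X) hV' a)
  have hit : ∀ (N : X.Modules) (m : Γ(N, (CohB1.genLocus P φ))) (z : Γ(tw N P K, ⊤)),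
      rs (tw N P K) le_top z = it (secOf φ) (CohB1.genLocus P φ) m K → (tw N P K).presheaf.germ ⊤ (genericPoint X) trivial z =
        g (a ^ K) • twEquiv N P hp' hV' K (N.presheaf.germ (CohB1.genLocus P φ) (genericPoint X) hη m) := by
    intro N m z hz
    have hz' : rs (tw N P K) (le_top : V' ≤ ⊤) z = a' ^ K • fr (rs N (inf_le_right : V' ≤ (CohB1.genLocus P φ)) m) p' K := by
      rw [← rs_rs (tw N P K) (le_top : (CohB1.genLocus P φ) ≤ ⊤) (inf_le_right : V' ≤ (CohB1.genLocus P φ)) z, hz, it_rs,
        it_eq_smul_fr (secOf φ) ha']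
    rw [← germ_rs (M := tw N P K) (le_top : V' ≤ ⊤) hV' z, hz', germ_smul, haK,
      ← twEquiv_germ N P hp' hV', germ_rs]
  have hfr : ∀ (N : X.Modules) (m : Γ(N, V)), (tw N P K).presheaf.germ V (genericPoint X) hηV (fr m p K) =
      twEquiv N P hp' hV' K (N.presheaf.germ V (genericPoint X) hηV m) := by
    intro N m
    rw [← germ_rs (M := tw N P K) (inf_le_left : V' ≤ V) hV', Groth.L22.CurveAmple.fr_rs,
      ← twEquiv_germ N P hp' hV', germ_rs]
  have hAη : (Matrix.of fun i j => g (A i j)) = g (a ^ K) • S := by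
    refine funext fun i => (he (genericPoint X) hηV).1 ((twEquiv E P hp' hV' K).injective ?_)
    have h1 := hit E (s i) (t i) (ht i)
    rw [hAy i (genericPoint X) hηV, hS i] at h1
    simp only [hfr] at h1
    simp only [map_sum, map_smul, Matrix.smul_apply, Pi.smul_apply, Matrix.of_apply, smul_eq_mul, mul_smul,
      ← Finset.smul_sum] at h1 ⊢
    exact h1
  have hdetA : g (Matrix.det (Matrix.of A)) = g (a ^ K) ^ n * S.det := by
    rw [RingHom.map_det]
    show (Matrix.of fun i j => g (A i j)).det = _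
    rw [hAη, Matrix.det_smul, Fintype.card_fin]
  have hginj : Function.Injective g := germ_injective_of_isIntegral X (genericPoint X) hηV
  have haK0 : g (a ^ K) ≠ 0 := by
    rw [map_pow]
    refine pow_ne_zero _ fun h0 => ?_
    have hmem : (genericPoint X) ∈ X.basicOpen a := by
      rw [← genLocus_inf_eq φ hp ha]
      exact ⟨hη, hηV⟩
    exact not_isUnit_zero (h0 ▸ (X.mem_basicOpen a (genericPoint X) hηV).1 hmem)
  have hA0 : g (Matrix.det (Matrix.of A)) ≠ 0 := by
    rw [hdetA]; exact mul_ne_zero (pow_ne_zero _ haK0) hS0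
  let G₁ : Γ(X, V) →+* X.presheaf.stalk x := (X.presheaf.germ V x hx).hom
  let l : (Fin n → X.presheaf.stalk x) ≃ₗ[X.presheaf.stalk x] (tw E P K).presheaf.stalk x :=
    (LinearEquiv.ofBijective (Fintype.linearCombination (X.presheaf.stalk x)
      fun j => E.presheaf.germ V x hx (e j)) (he x hx)) ≪≫ₗ twEquiv E P hp hx K
  have hdA : G₁ (Matrix.det (Matrix.of A)) = (Matrix.of fun i j => G₁ (A i j)).det := RingHom.map_det _ _
  obtain ⟨iA, lA⟩ := desc_facts x (fun i => Groth.L16.homOfSection _ (t i)) l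
    (Matrix.of fun i j => G₁ (A i j)) (fun i => by
      rw [st_homOfSection_one, hAy i x hx]
      show _ = twEquiv E P hp hx K
        (Fintype.linearCombination (X.presheaf.stalk x) (fun j => E.presheaf.germ V x hx (e j)) fun j => G₁ (A i j))
      simp only [Fintype.linearCombination_apply, map_sum, map_smul, twEquiv_germ]
      rfl)
    (hdA ▸ germ_ne_zero hx hηV hA0)
  obtain ⟨id', ld⟩ := frame_facts x (Groth.L16.homOfSection _ u) hx (isFrame_fr hone hp K) (G₁ (a ^ K))
    (by rw [st_homOfSection_one, hdy x hx]) (germ_ne_zero hx hηV haK0)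
  refine ⟨⟨iA, id'⟩, G₁ (Matrix.det (Matrix.of A)), G₁ (a ^ K), germ_ne_zero hx hηV hA0,
    germ_ne_zero hx hηV haK0, ?_, by rw [lA, hdA], ld⟩
  have key : ∀ z : Γ(X, V), algebraMap (X.presheaf.stalk x) X.functionField (G₁ z) = g z := fun z => by
    show (X.presheaf.stalkSpecializes ((genericPoint_spec X).specializes trivial)).hom
      (X.presheaf.germ V x hx z) = X.presheaf.germ V (genericPoint X) hηV z
    exact TopCat.Presheaf.germ_stalkSpecializes_apply X.presheaf hx _ z
  rw [key, key, hdetA]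

variable (k : Type u) [Field k] [X.Over (Spec (CommRingCat.of k))] [IsProper (X ↘ Spec (CommRingCat.of k))]

/-- If the transition matrices `S` to a generic family satisfy `D = (det S)² · δ y` then
`2 deg E = - ∑ ord_y (δ y) · deg y`. -/
theorem exists_two_mul_deg_eq (hd : topologicalKrullDim X = 1) {n : ℕ} {E : X.Modules}
    (hE : FlatMod.IsFinLocFreeOfRank n E) (W : X.Opens) (hW : genericPoint X ∈ W)
    (s : Fin n → Γ(E, W)) (D : X.functionField) (hD : D ≠ 0) (δ : ∀ y : X, X.presheaf.stalk y)
    (hloc : ∀ x : X, ∃ (V : X.Opens) (e : Fin n → Γ(E, V)), x ∈ V ∧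
      (∀ y (hy : y ∈ V), Function.Bijective
        fun a : Fin n → X.presheaf.stalk y => ∑ j, a j • E.presheaf.germ V y hy (e j)) ∧
      ∀ (hηV : genericPoint X ∈ V) (S : Matrix (Fin n) (Fin n) (X.presheaf.stalk (genericPoint X))),
        (∀ i, E.presheaf.germ W (genericPoint X) hW (s i) =
          ∑ j, S i j • E.presheaf.germ V (genericPoint X) hηV (e j)) →
        D = S.det ^ 2 * algebraMap (X.presheaf.stalk x) X.functionField (δ x)) :
    ∃ T : Finset X, (∀ y ∈ T, IsClosed ({y} : Set X)) ∧
      (∀ y : X, IsClosed ({y} : Set X) → y ∉ T → IsUnit (δ y)) ∧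
      2 * Curv2.deg k X E n = - ∑ y ∈ T, ((Ring.ord (X.presheaf.stalk y) (δ y)).toNat : ℤ) *
        ((X ↘ Spec (CommRingCat.of k)).residueDegree y : ℤ) := by
  classical
  haveI := Groth.L21.RR.isNoetherian_of_proper (X := X) k
  haveI : X.IsSeparated := ⟨by rw [← terminal.comp_from (X ↘ Spec (CommRingCat.of k))]; infer_instance⟩
  haveI hkd : ∀ x : X, Ring.KrullDimLE 1 (X.presheaf.stalk x) := fun x =>
    Ring.krullDimLE_iff.2 ((Groth.L21.SmoothDescent.ringKrullDim_stalk_le x).trans hd.le)
  obtain ⟨L0, hL0⟩ := Groth.Agent.S1551.result X hd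
  obtain ⟨P, φ, hP, hηG, hGW⟩ : ∃ (P : X.Modules) (φ : Coh.structureModule X ⟶ P), PicF.IsInvertible P ∧
      genericPoint X ∈ CohB1.genLocus P φ ∧ CohB1.genLocus P φ ≤ W := by
    obtain ⟨m, φ, h1, h2, -⟩ := exists_affine_genLocus_subset hL0 W hW
    exact ⟨_, φ, isInvertible_tensorPow hL0.1 _, h1, h2⟩
  have hEq : Coh.IsQCoh E :=
    Groth.L29.DC.PCQCoh.isQCoh_of_isFinLocFree (Groth.L22.CurveDeg.isFinLocFree_of_rank hE)
  choose k₀ hk₀ using fun i => exists_extend_ge hP φ (rs E hGW (s i))
  let K := Finset.univ.sup k₀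
  choose t ht using fun i => hk₀ i K (Finset.le_sup (Finset.mem_univ i))
  let u := it (N := Coh.structureModule X) (secOf φ) ⊤ (Groth.L21.RR.oneSec X) K
  let a := fun i => Groth.L16.homOfSection (tw E P K) (t i)
  let c := fun _ : Fin 1 => Groth.L16.homOfSection (tw (Coh.structureModule X) P K) u
  have key : ∀ x : X, (Function.Injective (st (desc a) x) ∧ Function.Injective (st (desc c) x)) ∧
      ∃ A d : X.presheaf.stalk x, A ≠ 0 ∧ d ≠ 0 ∧ δ x ≠ 0 ∧
        algebraMap (X.presheaf.stalk x) X.functionField (A ^ 2 * δ x) =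
          algebraMap (X.presheaf.stalk x) X.functionField (d ^ (2 * n)) * D ∧
        len x (cokernel (desc a)) = Ring.ord (X.presheaf.stalk x) A ∧
        len x (cokernel (desc c)) = Ring.ord (X.presheaf.stalk x) d := by
    intro x
    obtain ⟨V, e, hxV, he, hdet⟩ := hloc x
    obtain ⟨V₂, p, hxV₂, hp⟩ := Groth.L18.Frame.exists_frame hP x
    have hηV : genericPoint X ∈ V ⊓ V₂ :=
      ((genericPoint_spec X).specializes trivial).mem_open (V ⊓ V₂).2 (show x ∈ V ⊓ V₂ from ⟨hxV, hxV₂⟩)
    choose S hS using fun i => (he (genericPoint X) hηV.1).2 (E.presheaf.germ W (genericPoint X) hW (s i))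
    have hDS := hdet hηV.1 (Matrix.of S) (fun i => (hS i).symm)
    have hS0 : (Matrix.of S).det ≠ 0 := fun h => hD (by rw [hDS, h]; simp)
    have hδ0 : δ x ≠ 0 := fun h => hD (by rw [hDS, h]; simp)
    obtain ⟨⟨iA, ic⟩, A, d, hA, hd', hAd, lA, ld⟩ := local_data' φ K hηG (fun i => rs E hGW (s i)) t ht x
      (V := V ⊓ V₂) ⟨hxV, hxV₂⟩ hηV (fun j => rs E inf_le_left (e j))
      (fun y hy => by simpa only [germ_rs] using he y hy.1) (rs P inf_le_right p) (hp.mono _) (Matrix.of S)
      (fun i => by simp only [germ_rs]; exact (hS i).symm) hS0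
    refine ⟨⟨iA, ic⟩, A, d, hA, hd', hδ0, ?_, lA, ld⟩
    rw [map_mul, map_pow, map_pow, hAd, hDS]
    ring
  choose hinj A C hA hC hδ hid hla hlc using key
  have hzero : ∀ x : X, ¬ IsClosed ({x} : Set X) → ∀ z : X.presheaf.stalk x, z ≠ 0 →
      Ring.ord (X.presheaf.stalk x) z = 0 := fun x hx z hz => by
    obtain ⟨w, hw⟩ := (Groth.L21.RR.stalk_isField hd.le hx).mul_inv_cancel hz
    exact Ring.ord_of_isUnit (IsUnit.of_mul_eq_one w hw)
  have hPK : PicF.IsInvertible (CohB1.tensorPow P K) := isInvertible_tensorPow hP K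
  have hPc : Coh.IsCoh (CohB1.tensorPow P K) := Groth.L16.ProperFinite.isCoh_of_isInvertible hPK
  have hEc : Coh.IsCoh (tw E P K) :=
    Groth.L16.CohSupport.isCoh_of_iso (twIso E P K).symm (Groth.L22.CurveDeg.isCoh_tensor_locFree hE hPc)
  have hOc : Coh.IsCoh (tw (Coh.structureModule X) P K) := by rw [tw_unit]; exact hPc
  obtain ⟨qa, fa, ea⟩ := desc_euler k hEc a (fun x => (hinj x).1) (fun x hx => by rw [hla, hzero x hx _ (hA x)])
  obtain ⟨qc, fc, ec⟩ := desc_euler k hOc c (fun x => (hinj x).2) (fun x hx => by rw [hlc, hzero x hx _ (hC x)])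
  -- the divisor of `D` is supported in a finite set
  let c₀ := X ↘ Spec (CommRingCat.of k)
  let G : X → ℤ := fun y => CycAlg.ordFrac (X.presheaf.stalk y) X.functionField D
  have hG : ∀ y, G y + 2 * n * ((Ring.ord (X.presheaf.stalk y) (C y)).toNat : ℤ) =
      2 * ((Ring.ord (X.presheaf.stalk y) (A y)).toNat : ℤ) + ((Ring.ord (X.presheaf.stalk y) (δ y)).toNat : ℤ) := by
    intro y
    have hz : algebraMap (X.presheaf.stalk y) X.functionField (C y ^ (2 * n)) ≠ 0 :=
      (map_ne_zero_iff _ (IsFractionRing.injective _ _)).2 (pow_ne_zero _ (hC y))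
    have hDeq : D = algebraMap (X.presheaf.stalk y) X.functionField (A y ^ 2 * δ y) /
        algebraMap (X.presheaf.stalk y) X.functionField (C y ^ (2 * n)) := by
      rw [hid y, mul_div_cancel_left₀ _ hz]
    have h1 : G y = ((Ring.ord (X.presheaf.stalk y) (A y ^ 2 * δ y)).toNat : ℤ) -
        ((Ring.ord (X.presheaf.stalk y) (C y ^ (2 * n))).toNat : ℤ) :=
      (congrArg (CycAlg.ordFrac (X.presheaf.stalk y) X.functionField) hDeq).trans
        (Groth.L22.OrdDet.ordFrac_div (mul_ne_zero (pow_ne_zero _ (hA y)) (hδ y)) (pow_ne_zero _ (hC y)))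
    have hA' := mem_nonZeroDivisors_of_ne_zero (hA y)
    have hC' := mem_nonZeroDivisors_of_ne_zero (hC y)
    have hδ' := mem_nonZeroDivisors_of_ne_zero (hδ y)
    rw [Ring.ord_mul _ hδ', Ring.ord_pow hA', Ring.ord_pow hC', nsmul_eq_mul, nsmul_eq_mul,
      ENat.toNat_add (WithTop.mul_ne_top (ENat.natCast_ne_top 2) (Ring.ord_ne_top hA')) (Ring.ord_ne_top hδ'),
      ENat.toNat_mul, ENat.toNat_mul, ENat.toNat_natCast, ENat.toNat_natCast] at h1
    push_cast at h1
    linarith [h1]
  obtain ⟨V₀, e₀, hηV₀, he₀, hdet₀⟩ := hloc (genericPoint X)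
  let Tδ : Set X := {y | IsClosed ({y} : Set X) ∧ ¬ IsUnit (δ y)}
  have hTδ : Tδ.Finite := by
    -- outside the support of the divisor of `D` and the two cokernels
    have hDfin : {y : X | IsClosed ({y} : Set X) ∧ G y ≠ 0}.Finite := by
      obtain ⟨U, hηU, z, hz⟩ := TopCat.Presheaf.exists_germ_eq X.presheaf D
      have hηb : genericPoint X ∈ X.basicOpen z := by
        rw [X.mem_basicOpen z _ hηU, hz]
        exact isUnit_iff_ne_zero.2 hD
      refine (Groth.L18.Curve.finite_of_forall_isClosed (X.basicOpen z).2.isClosed_compl fun y hy => ?_).subset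
        fun y hy hyb => hy.2 ?_
      · by_contra hc
        refine hy ?_
        obtain ⟨w, hyw, hne⟩ : ∃ w, y ⤳ w ∧ y ≠ w := by
          by_contra hh
          push Not at hh
          exact hc (isClosed_of_closure_subset fun w hw => (hh w (specializes_iff_mem_closure.2 hw)).symm)
        rcases Groth.L21.RR.Top.spec_of_dim_le_one (X := X.toTopCat) hd.le (genericPoint X) y w
          ((genericPoint_spec X).specializes trivial) hyw with h | h
        · exact h ▸ hηb
        · exact absurd h hne
      · have hyU : y ∈ U := X.basicOpen_le z hyb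
        have hu : IsUnit (X.presheaf.germ U y hyU z) := (X.mem_basicOpen z y hyU).1 hyb
        have hDy : D = algebraMap (X.presheaf.stalk y) X.functionField (X.presheaf.germ U y hyU z) /
            algebraMap (X.presheaf.stalk y) X.functionField 1 := by
          rw [map_one, div_one, ← hz]
          show _ = (X.presheaf.stalkSpecializes ((genericPoint_spec X).specializes trivial)).hom
            (X.presheaf.germ U y hyU z)
          exact (TopCat.Presheaf.germ_stalkSpecializes_apply X.presheaf hyU _ z).symm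
        refine (congrArg (CycAlg.ordFrac (X.presheaf.stalk y) X.functionField) hDy).trans ?_
        rw [Groth.L22.OrdDet.ordFrac_div hu.ne_zero one_ne_zero, Ring.ord_of_isUnit hu,
          Ring.ord_of_isUnit isUnit_one]
        simp
    refine (hDfin.union (fa.union fc)).subset fun y hy => ?_
    by_contra hn
    simp only [Set.mem_union, Set.mem_setOf_eq, not_or, not_and, not_not] at hn
    obtain ⟨hn1, hn2, hn3⟩ := hn
    have h0a : Ring.ord (X.presheaf.stalk y) (A y) = 0 := (hla y).symm.trans ((len_eq_zero_iff y _).2 hn2)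
    have h0c : Ring.ord (X.presheaf.stalk y) (C y) = 0 := (hlc y).symm.trans ((len_eq_zero_iff y _).2 hn3)
    have h2 := hG y
    rw [hn1 hy.1, h0a, h0c] at h2
    have h4 : (Ring.ord (X.presheaf.stalk y) (δ y)).toNat = 0 := by simpa using h2.symm
    rcases ENat.toNat_eq_zero.1 h4 with h2 | h2
    · exact hy.2 (Ideal.span_singleton_eq_top.1 (Submodule.Quotient.subsingleton_iff.1 (Module.length_eq_zero_iff.1 h2)))
    · exact Ring.ord_ne_top (mem_nonZeroDivisors_of_ne_zero (hδ y)) h2
  let T := (fa.union (fc.union hTδ)).toFinset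
  have hTc : ∀ y ∈ T, IsClosed ({y} : Set X) := by
    intro y hy
    by_contra hyc
    simp only [T, Set.Finite.mem_toFinset, Set.mem_union] at hy
    rcases hy with hy | hy | hy
    · exact (len_eq_zero_iff y _).1 (by rw [hla, hzero y hyc _ (hA y)]) hy
    · exact (len_eq_zero_iff y _).1 (by rw [hlc, hzero y hyc _ (hC y)]) hy
    · exact hyc hy.1
  refine ⟨T, hTc, fun y hy hyT => by_contra fun h => hyT (by simp [T, Tδ, hy, h]), ?_⟩
  rw [euler_eq_sum_points k T hTc qa (fun y hy => by simp [T, hy])] at ea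
  rw [euler_eq_sum_points k T hTc qc (fun y hy => by simp [T, hy])] at ec
  have e0 : Curv2.euler k X (CohB1.tensorPow P K) = Curv2.euler k X (tw (Coh.structureModule X) P K) := by
    rw [tw_unit]
  have hlen : len (genericPoint X) (CohB1.tensorPow P K) = 1 := by
    obtain ⟨v, hv⟩ := Groth.L21.RR.exists_frame_stalk hPK (genericPoint X)
    show Module.length _ _ = 1
    rw [← (LinearEquiv.ofBijective (LinearMap.toSpanSingleton (X.presheaf.stalk (genericPoint X))
      ((CohB1.tensorPow P K).presheaf.stalk (genericPoint X)) v) hv).length_eq]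
    letI : Field (X.presheaf.stalk (genericPoint X)) := inferInstanceAs (Field X.functionField)
    exact Module.length_eq_one_iff.2 inferInstance
  have hpE := Groth.L22.CurveDeg.phi_eq_of_integral k hd hE hPc
  rw [hlen, Groth.L22.CurveDeg.phi, ← Groth.L03.Euler.euler_iso (twIso E P K), e0, ea, ec] at hpE
  simp only [ENat.toNat_one, Nat.cast_one, one_mul, hla, hlc] at hpE
  -- the divisor of `D` has degree zero
  have hdiv : ∑ y ∈ T, (c₀.residueDegree y : ℤ) * G y = 0 := by
    refine Eq.trans ?_ (Groth.L22.Cyc.finsum_residueDegree_mul_ordFrac_eq_zero k c₀ hd D hD)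
    symm
    rw [finsum_eq_sum_of_support_subset _ (s := T) ?_]
    · exact Finset.sum_congr rfl fun y hy => finsum_eq_if.trans (if_pos (hTc y hy))
    · intro y hy
      rw [Function.mem_support, finsum_eq_if] at hy
      by_cases hyc : IsClosed ({y} : Set X)
      · rw [if_pos hyc] at hy
        by_contra hyT
        simp only [Finset.mem_coe, T, Tδ, Set.Finite.mem_toFinset, Set.mem_union, Set.mem_setOf_eq, not_or,
          not_and, not_not] at hyT
        obtain ⟨hn1, hn2, hn3⟩ := hyT
        have h0a : Ring.ord (X.presheaf.stalk y) (A y) = 0 := (hla y).symm.trans ((len_eq_zero_iff y _).2 hn1)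
        have h0c : Ring.ord (X.presheaf.stalk y) (C y) = 0 := (hlc y).symm.trans ((len_eq_zero_iff y _).2 hn2)
        have h2 := hG y
        rw [h0a, h0c, Ring.ord_of_isUnit (hn3 hyc)] at h2
        simp at h2
        exact hy (mul_eq_zero_of_right _ h2)
      · rw [if_neg hyc] at hy
        exact absurd rfl hy
  rw [← hpE]
  rw [Finset.sum_congr rfl fun y hy => show ((Ring.ord (X.presheaf.stalk y) (A y)).toNat : ℤ) * ptEuler k y =
    ((Ring.ord (X.presheaf.stalk y) (A y)).toNat : ℤ) * (c₀.residueDegree y : ℤ) by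
      rw [ptEuler_eq_residueDegree k (hTc y hy)]]
  rw [Finset.sum_congr rfl fun y hy => show ((Ring.ord (X.presheaf.stalk y) (C y)).toNat : ℤ) * ptEuler k y =
    ((Ring.ord (X.presheaf.stalk y) (C y)).toNat : ℤ) * (c₀.residueDegree y : ℤ) by
      rw [ptEuler_eq_residueDegree k (hTc y hy)]]
  have h3 : ∑ y ∈ T, (2 * ((Ring.ord (X.presheaf.stalk y) (A y)).toNat : ℤ) * (c₀.residueDegree y : ℤ) +
      ((Ring.ord (X.presheaf.stalk y) (δ y)).toNat : ℤ) * (c₀.residueDegree y : ℤ) -
      2 * n * ((Ring.ord (X.presheaf.stalk y) (C y)).toNat : ℤ) * (c₀.residueDegree y : ℤ)) = 0 := by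
    refine Eq.trans (Finset.sum_congr rfl fun y _ => ?_) hdiv
    linear_combination -(c₀.residueDegree y : ℤ) * hG y
  rw [Finset.sum_sub_distrib, Finset.sum_add_distrib] at h3
  simp only [mul_assoc, ← Finset.mul_sum] at h3 ⊢
  linear_combination h3

end Groth.L21.Disc
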