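import Groth.Agent.L21.Disc.FittKernel
import Groth.Agent.L21.InvHom
import Groth.Agent.L12.HypInvol.Main
import Groth.Agent.L15.OmegaCoh
import Groth.Agent.L21.PlaneCurve.Plane
import Mathlib.CategoryTheory.Preadditive.Biproducts
import Mathlib.RingTheory.Kaehler.Basic

/-!
Double covers: the covering involution, the ramification ideal, the anti-invariant summand.
-/

set_option autoImplicit false
set_option backward.isDefEq.respectTransparency false
set_option backward.isDefEq.respectTransparency.types false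
set_option linter.style.haveILetI false
universe u

open CategoryTheory CategoryTheory.Limits AlgebraicGeometry TopologicalSpace Opposite
open scoped TensorProduct

noncomputable section

namespace Groth.L21.DoubleCover

open Groth.L12.SymSq (InvQuot IsFixedScheme)
open Groth.L18.Frame (rs ro IsFrame)

/-- Differentials of `A ⊕ A d` with `d * d ∈ A`: the Fitting ideal is generated by `d`. -/
theorem fitting_kaehler {A B : Type u} [CommRing A] [CommRing B] [Algebra A B] (d : B) (h2 : IsUnit (2 : B))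
    (hb : Function.Bijective fun p : A × A => algebraMap A B p.1 + algebraMap A B p.2 * d)
    (hd : ∃ a : A, algebraMap A B a = d * d) :
    Fitt.ideal B (Ω[B⁄A]) 0 = Ideal.span {d} := by
  obtain ⟨a, ha⟩ := hd
  let I := Ideal.span {d}
  let L : (A × A) →ₗ[A] B :=
    { toFun := fun p => algebraMap A B p.1 + algebraMap A B p.2 * d
      map_add' := fun p q => by simp [add_mul]; ring
      map_smul' := fun r p => by simp [Algebra.smul_def, mul_add, mul_assoc] }
  let e := LinearEquiv.ofBijective L hb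
  let δ₀ : B →ₗ[A] B ⧸ I :=
    ((Algebra.linearMap A (B ⧸ I)).comp (LinearMap.snd A A A)).comp e.symm.toLinearMap
  have hδ : ∀ x y : A, δ₀ (algebraMap A B x + algebraMap A B y * d) = Ideal.Quotient.mk I (algebraMap A B y) := by
    intro x y
    show algebraMap A (B ⧸ I) (e.symm _).2 = _
    rw [show algebraMap A B x + algebraMap A B y * d = e (x, y) from rfl, e.symm_apply_apply]
    rfl
  have hI : Ideal.Quotient.mk I d = 0 := Ideal.Quotient.eq_zero_iff_mem.2 (Ideal.subset_span rfl)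
  let δ : Derivation A B (B ⧸ I) := Derivation.mk' δ₀ fun b b' => by
    obtain ⟨⟨x, y⟩, rfl⟩ := hb.2 b
    obtain ⟨⟨x', y'⟩, rfl⟩ := hb.2 b'
    have hm : (algebraMap A B x + algebraMap A B y * d) * (algebraMap A B x' + algebraMap A B y' * d) =
        algebraMap A B (x * x' + y * y' * a) + algebraMap A B (x * y' + y * x') * d := by
      simp only [map_add, map_mul, ha]; ring
    rw [hm, hδ, hδ, hδ]
    simp only [Algebra.smul_def, map_add, map_mul, Ideal.Quotient.algebraMap_eq, hI, mul_zero, add_zero]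
    ring
  let D := KaehlerDifferential.D A B
  let g : B →ₗ[B] Ω[B⁄A] := LinearMap.toSpanSingleton B _ (D d)
  have hsurj : Function.Surjective g := by
    rw [← LinearMap.range_eq_top, eq_top_iff, ← KaehlerDifferential.span_range_derivation, Submodule.span_le]
    rintro _ ⟨b, rfl⟩
    obtain ⟨⟨x, y⟩, rfl⟩ := hb.2 b
    exact ⟨algebraMap A B y, by simp [g, D]⟩
  have hdd : d • D d = 0 := by
    have h0 : D (d * d) = 0 := by rw [← ha]; exact D.map_algebraMap a
    rw [D.leibniz, ← two_smul B (d • D d)] at h0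
    exact h2.smul_eq_zero.1 h0
  have hker : LinearMap.ker g = I := by
    refine le_antisymm (fun b hb0 => ?_) (Ideal.span_le.2 (Set.singleton_subset_iff.2 hdd))
    have h1 := congrArg δ.liftKaehlerDifferential (show b • D d = 0 from hb0)
    rw [map_smul, map_zero, Derivation.liftKaehlerDifferential_comp_D] at h1
    have h3 : δ d = 1 := by
      have := hδ 0 1
      simpa [δ] using this
    rw [h3, Algebra.smul_def, mul_one, Ideal.Quotient.algebraMap_eq] at h1
    exact Ideal.Quotient.eq_zero_iff_mem.1 h1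
  rw [← Groth.L13.Fitting.ideal_congr (LinearMap.quotKerEquivOfSurjective g hsurj) 0,
    Groth.L15.FittEtale.fitting_quotient, hker]

variable {X Y : Scheme.{u}} {π : X ⟶ Y}

/-- The involution of a double cover of an integral scheme is unique. -/
theorem invQuot_of_doubleCover [IsIntegral X] [IsIntegral Y] [IsFinite π] [Flat π] [LocallyOfFinitePresentation π]
    [X.IsSeparated] (hrk : ∀ y : Y, Scheme.Hom.finrank π y = 2) (h2 : IsUnit (2 : Γ(Y, ⊤)))
    {σ : X ⟶ X} (hσ1 : σ ≠ 𝟙 X) (hσπ : σ ≫ π = π) : InvQuot π σ := by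
  obtain ⟨τ, hτπ, hτ2, hQ⟩ := Groth.Agent.L13.DblCov.exists_involution π hrk h2
  have h : InvQuot π τ.hom := Groth.L12.HypInvol.invQuot_of_isQuot hτ2 hQ h2
  suffices hστ : σ = τ.hom by rw [hστ]; exact h
  haveI : Surjective π := (Scheme.Hom.one_le_finrank_iff_surjective π).1 fun y => by
    show 1 ≤ π.finrank y
    rw [hrk y]; omega
  obtain ⟨U, hU, hyU, -⟩ := exists_isAffineOpen_mem_and_subset (x := genericPoint Y) (U := ⊤) trivial
  obtain ⟨x₀, hx₀⟩ := π.surjective (genericPoint Y)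
  have hV := hU.preimage π
  have hxV : x₀ ∈ π ⁻¹ᵁ U := by
    show π x₀ ∈ U
    rw [hx₀]; exact hyU
  haveI : IsDomain Γ(X, π ⁻¹ᵁ U) := @IsIntegral.component_integral X _ (π ⁻¹ᵁ U) ⟨⟨x₀, hxV⟩⟩
  have hle : π ⁻¹ᵁ U ≤ σ ⁻¹ᵁ (π ⁻¹ᵁ U) := by rw [← Scheme.Hom.comp_preimage, hσπ]
  let s := (σ.appLE (π ⁻¹ᵁ U) (π ⁻¹ᵁ U) hle).hom
  have hs : ∀ a, s (π.app U a) = π.app U a := fun a => by
    show (π.app U ≫ σ.appLE (π ⁻¹ᵁ U) (π ⁻¹ᵁ U) hle) a = _
    rw [Scheme.Hom.app_eq_appLE, Scheme.Hom.appLE_comp_appLE, Groth.L27.Quot.appLE_eq_of_eq hσπ]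
  have hor : ∀ b, s b = b ∨ s b = h.act U b := by
    intro b
    obtain ⟨t, ht⟩ := h.exists_avg U b
    obtain ⟨n, hn⟩ := h.range U (b * h.act U b) (by
      show h.act U (b * h.act U b) = _
      rw [map_mul, h.act_act, mul_comm])
    have h1 : (b - b) * (b - h.act U b) = 0 := by rw [sub_self, zero_mul]
    have h3 : b * b - π.app U t * b + π.app U n = 0 := by rw [ht, hn]; ring
    have h4 := congrArg s h3
    simp only [map_add, map_sub, map_mul, map_zero, hs] at h4
    have h5 : (s b - b) * (s b - h.act U b) = 0 := by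
      rw [ht, hn] at h4
      linear_combination h4
    rcases mul_eq_zero.1 h5 with h6 | h6
    exacts [Or.inl (sub_eq_zero.1 h6), Or.inr (sub_eq_zero.1 h6)]
  have hall : (∀ b, s b = b) ∨ (∀ b, s b = h.act U b) := by
    by_contra hne
    push Not at hne
    obtain ⟨⟨b, hb⟩, ⟨c, hc⟩⟩ := hne
    have hb' := (hor b).resolve_left hb
    have hc' := (hor c).resolve_right hc
    rcases hor (b + c) with h6 | h6
    · rw [map_add, hc'] at h6
      exact hb (add_right_cancel h6)
    · rw [map_add, map_add, hb'] at h6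
      exact hc (add_left_cancel h6)
  haveI : IsDominant hV.fromSpec := ⟨hV.fromSpec.isOpenEmbedding.isOpen_range.dense
    (by rw [hV.range_fromSpec]; exact ⟨x₀, hxV⟩)⟩
  have hext : ∀ g : X ⟶ X, hV.fromSpec ≫ σ = hV.fromSpec ≫ g → σ = g := fun g hg =>
    ext_of_isDominant_of_isSeparated (terminal.from X) (terminal.hom_ext _ _) hV.fromSpec hg
  rcases hall with hid | hact
  · refine absurd (hext (𝟙 X) ?_) hσ1
    rw [Category.comp_id, ← hV.SpecMap_appLE_fromSpec σ hV hle,
      show σ.appLE (π ⁻¹ᵁ U) (π ⁻¹ᵁ U) hle = 𝟙 _ from CommRingCat.hom_ext (RingHom.ext hid),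
      Spec.map_id, Category.id_comp]
  · refine hext τ.hom ?_
    rw [← hV.SpecMap_appLE_fromSpec σ hV hle, ← hV.SpecMap_appLE_fromSpec τ.hom hV (h.le_preimage U),
      show σ.appLE (π ⁻¹ᵁ U) (π ⁻¹ᵁ U) hle = τ.hom.appLE (π ⁻¹ᵁ U) (π ⁻¹ᵁ U) (h.le_preimage U) from
        CommRingCat.hom_ext (RingHom.ext hact)]

variable {Z : Scheme.{u}} {τ : X ⟶ X} (h : InvQuot π τ) {Δ : Z ⟶ X} (hΔ : IsFixedScheme τ Δ)
  [IsLocallyNoetherian X] (hI : PicF.IsInvertible (ClSub.idealMod Δ.ker))

include h hΔ hI in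
/-- The ramification ideal is the ideal of the fixed scheme. -/
theorem fitt_omega [QuasiSeparated π] [LocallyOfFiniteType π] :
    Fitt.sheafIdeal (Omega.sheaf π) 0 = Δ.ker := by
  have hcoh := Groth.L15.OmegaCoh.isCoh_omega π
  haveI := hcoh.1
  haveI := h.affine
  have key : ∀ x : X, ∃ U : X.affineOpens, x ∈ U.1 ∧
      (Fitt.sheafIdeal (Omega.sheaf π) 0).ideal U = Δ.ker.ideal U := by
    intro x
    obtain ⟨V₀, n₀, m₀, hxV₀, hn₀, hm₀, hmn₀⟩ := h.exists_frames hΔ hI x
    obtain ⟨V, hV, hxV, hVle⟩ := exists_isAffineOpen_mem_and_subset (x := π x) (U := V₀) hxV₀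
    have hle : V ≤ V₀ := hVle
    have hP := hV.preimage π
    have hle' : π ⁻¹ᵁ V ≤ π ⁻¹ᵁ V₀ := fun _ hz => hle hz
    let n := rs h.anti hle n₀
    let m := rs (ClSub.idealMod Δ.ker) hle' m₀
    have hn : IsFrame h.anti V n := hn₀.mono hle
    have hm : IsFrame (ClSub.idealMod Δ.ker) (π ⁻¹ᵁ V) m := hm₀.mono hle'
    let d : Γ(X, π ⁻¹ᵁ V) := h.antiι.app V n
    have hmn : (show Γ(X, π ⁻¹ᵁ V) from (ClSub.idealModι Δ.ker).app (π ⁻¹ᵁ V) m) = d := by
      have e1 := congr($((ClSub.idealModι Δ.ker).mapPresheaf.naturality (homOfLE hle').op) m₀)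
      have e2 := congr($(h.antiι.mapPresheaf.naturality (homOfLE hle).op) n₀)
      exact e1.trans ((congrArg (ro hle') hmn₀).trans e2.symm)
    letI : Algebra Γ(Y, V) Γ(X, π ⁻¹ᵁ V) := (π.appLE V (π ⁻¹ᵁ V) le_rfl).hom.toAlgebra
    have halg : ∀ a, algebraMap Γ(Y, V) Γ(X, π ⁻¹ᵁ V) a = π.app V a := fun a => by
      rw [RingHom.algebraMap_toAlgebra, ← Scheme.Hom.app_eq_appLE]
    have hyd : ∀ y : Γ(Y, V), (show Γ(X, π ⁻¹ᵁ V) from h.antiι.app V (y • n)) = π.app V y * d := fun y =>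
      Scheme.Modules.Hom.app_smul h.antiι y n
    have hdanti : h.act V d = -d := h.act_antiι V n
    have h2X : IsUnit (2 : Γ(X, π ⁻¹ᵁ V)) := by
      have := (h.two_isUnit V).map (π.app V).hom
      rwa [map_ofNat] at this
    have hbij : Function.Bijective fun p : Γ(Y, V) × Γ(Y, V) =>
        algebraMap Γ(Y, V) Γ(X, π ⁻¹ᵁ V) p.1 + algebraMap Γ(Y, V) Γ(X, π ⁻¹ᵁ V) p.2 * d := by
      refine ⟨fun p q hpq => ?_, fun b => ?_⟩
      · simp only [halg] at hpq
        have hpq' := congrArg (h.act V) hpq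
        simp only [map_add, map_mul, h.act_app, hdanti] at hpq'
        have e1 : p.1 = q.1 := h.injective V (h2X.mul_left_cancel (by linear_combination hpq + hpq'))
        rw [e1, add_right_inj, ← hyd, ← hyd] at hpq
        exact Prod.ext e1 (hn.inj le_rfl (by simpa [Groth.L18.Frame.rs_self] using h.antiι_injective V hpq))
      · have hs : h.act V (b - π.app V (h.avg V b)) = -(b - π.app V (h.avg V b)) := by
          rw [map_sub, h.act_app]
          linear_combination -(h.two_mul_app_avg V b)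
        obtain ⟨t, ht⟩ := h.exists_of_act_eq_neg V _ hs
        obtain ⟨y, hy⟩ := hn.exists_coeff le_rfl t
        rw [Groth.L18.Frame.rs_self] at hy
        refine ⟨(h.avg V b, y), ?_⟩
        simp only [halg]
        rw [← hyd, hy, ht]
        ring
    have hdd : ∃ a, algebraMap Γ(Y, V) Γ(X, π ⁻¹ᵁ V) a = d * d := by
      obtain ⟨a, ha⟩ := h.range V (d * d) (by
        show h.act V (d * d) = d * d
        rw [map_mul, hdanti, neg_mul_neg])
      exact ⟨a, (halg a).trans ha⟩
    refine ⟨⟨π ⁻¹ᵁ V, hP⟩, hxV, ?_⟩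
    rw [Groth.L15.FittSheaf.sheafIdeal_ideal _ hcoh.2]
    obtain ⟨s⟩ := Groth.L15.OmegaCoh.exists_sections_equiv π hP hV le_rfl
    haveI := Groth.L20.ModStalk.finite_sections (Omega.sheaf π) hcoh hP
    rw [Groth.L13.Fitting.ideal_congr s.symm 0, fitting_kaehler d h2X hbij hdd]
    refine le_antisymm (Ideal.span_le.2 (Set.singleton_subset_iff.2 ?_)) fun r hr => ?_
    · exact (Groth.L18.IdealModule.mem_ideal_iff Δ.ker hP _).2 ⟨m, hmn⟩
    · obtain ⟨m', hm'⟩ := (Groth.L18.IdealModule.mem_ideal_iff Δ.ker hP _).1 hr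
      obtain ⟨b, hb⟩ := hm.exists_coeff le_rfl m'
      rw [Groth.L18.Frame.rs_self] at hb
      refine Ideal.mem_span_singleton'.2 ⟨b, ?_⟩
      rw [← hm', ← hb, ← hmn]
      exact (Scheme.Modules.Hom.app_smul (ClSub.idealModι Δ.ker) b m).symm
  choose U hxU hU using key
  exact Scheme.IdealSheafData.ext_of_iSup_eq_top U (eq_top_iff.2 fun x _ =>
    Opens.mem_iSup.2 ⟨x, hxU x⟩) hU

omit [IsLocallyNoetherian X] in
include h in
/-- With only constant functions upstairs, the anti-invariant part has no sections. -/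
theorem hom_anti_eq_zero (hconst : ∀ c : Γ(X, ⊤), ∃ a : Γ(Y, ⊤), π.app ⊤ a = c)
    (φ : Coh.structureModule Y ⟶ h.anti) : φ = 0 := by
  have h0 : ∀ t : Γ(h.anti, ⊤), t = 0 := fun t => by
    obtain ⟨a, ha⟩ := hconst (show Γ(X, π ⁻¹ᵁ (⊤ : Y.Opens)) from h.antiι.app ⊤ t)
    have h1 := h.act_antiι ⊤ t
    rw [← ha] at h1
    rw [h.act_app, ← map_neg] at h1
    have h2 : (2 : Γ(Y, ⊤)) * a = 0 := by linear_combination h.injective ⊤ h1
    refine h.antiι_injective ⊤ ?_
    rw [map_zero]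
    show (show Γ(X, π ⁻¹ᵁ (⊤ : Y.Opens)) from h.antiι.app ⊤ t) = 0
    rw [← ha, h.two.mul_right_eq_zero.1 h2, map_zero]
  refine Groth.L21.RR.eq_zero_of_st_one φ fun x => ?_
  rw [Groth.L21.RR.st_one φ x (W := ⊤) trivial, h0 (φ.app ⊤ (Groth.L21.RR.oneSec Y))]
  exact (congrArg (fun v => h.anti.presheaf.germ ⊤ x trivial v) (map_zero _)).trans (map_zero _)

omit [IsLocallyNoetherian X] in
include h in
/-- The complement of the structure module in the pushforward is the anti-invariant part. -/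
theorem nonempty_iso_anti [IsIntegral Y]
    (hconst : ∀ c : Γ(X, ⊤), ∃ a : Γ(Y, ⊤), π.app ⊤ a = c) {D : Y.Modules}
    (e : (Scheme.Modules.pushforward π).obj (Coh.structureModule X) ≅ Coh.structureModule Y ⊞ D) :
    Nonempty (D ≅ h.anti) := by
  haveI : Epi h.retr := SplitEpi.epi ⟨ClSub.unitToPush π, h.unit_retr⟩
  let T := ShortComplex.mk h.antiι h.retr (kernel.condition h.retr)
  have hT : T.Exact := ShortComplex.exact_of_f_is_kernel _ (kernelIsKernel h.retr)
  haveI : Mono T.f := inferInstanceAs (Mono (kernel.ι h.retr))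
  let sp : T.Splitting := ShortComplex.Splitting.ofExactOfSection T hT (ClSub.unitToPush π) h.unit_retr inferInstance
  let ψ : Coh.structureModule Y ⊞ D ≅ Coh.structureModule Y ⊞ h.anti :=
    e.symm ≪≫ sp.isoBinaryBiproduct ≪≫ biprod.braiding _ _
  have hz : biprod.inl ≫ ψ.hom ≫ biprod.snd = 0 := hom_anti_eq_zero h hconst _
  have hl : biprod.inl ≫ ψ.hom = (biprod.inl ≫ ψ.hom ≫ biprod.fst) ≫ biprod.inl := by
    refine biprod.hom_ext _ _ ?_ ?_
    · simp
    · simp [hz]
  have hret : (biprod.inl ≫ ψ.hom ≫ biprod.fst) ≫ (biprod.inl ≫ ψ.inv ≫ biprod.fst) = 𝟙 _ := by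
    rw [← Category.assoc _ biprod.inl, ← hl]
    simp
  have hO := Groth.L18.Ample.isInvertible_structureModule Y
  haveI : IsIso (biprod.inl ≫ ψ.hom ≫ biprod.fst) := by
    haveI : IsSplitEpi (biprod.inl ≫ ψ.inv ≫ biprod.fst) := IsSplitEpi.mk' ⟨_, hret⟩
    have hne : biprod.inl ≫ ψ.inv ≫ biprod.fst ≠ (0 : Coh.structureModule Y ⟶ Coh.structureModule Y) := fun h0 => by
      rw [h0, comp_zero] at hret
      have h1 := congr($(congrArg (fun g => Scheme.Modules.Hom.app g (⊤ : Y.Opens)) hret) (Groth.L21.RR.oneSec Y))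
      haveI : Nonempty ↥(⊤ : Y.Opens) := ⟨⟨genericPoint Y, trivial⟩⟩
      haveI : IsDomain Γ(Y, ⊤) := inferInstance
      exact zero_ne_one (α := Γ(Y, ⊤)) h1
    haveI := Groth.L21.InvHom.mono_of_ne_zero hO hO hne
    haveI : IsIso (biprod.inl ≫ ψ.inv ≫ biprod.fst) := isIso_of_mono_of_isSplitEpi _
    exact (isIso_comp_right_iff (biprod.inl ≫ ψ.hom ≫ biprod.fst) (biprod.inl ≫ ψ.inv ≫ biprod.fst)).1
      (by rw [hret]; infer_instance)
  exact ⟨Biprod.isoElim ψ⟩

end Groth.L21.DoubleCover
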