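import Groth.Agent.L21.CurveAdj.Formula
import Groth.Agent.L21.Weil.Slope
import Groth.Agent.L15.FittSheaf
import Groth.Agent.L15.FittEtale.Main

/-!
A monomorphism into an invertible module has image cut out by the Fitting ideal of its cokernel.
-/

set_option autoImplicit false
set_option backward.isDefEq.respectTransparency false
set_option linter.style.haveILetI false
universe u

open CategoryTheory CategoryTheory.Limits AlgebraicGeometry TopologicalSpace
open scoped TensorProduct

noncomputable section

namespace Groth.L21.Disc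

open Groth.L21.RR (st)
open Groth.L21.CurveAdj (stI)

variable {X : Scheme.{u}}

/-- The stalk of the Fitting ideal sheaf is the Fitting ideal of the stalk. -/
theorem stI_sheafIdeal (F : X.Modules) (hF : Coh.IsCoh F) (r : ℕ) (x : X) :
    stI (Fitt.sheafIdeal F r) x = Fitt.ideal (X.presheaf.stalk x) (F.presheaf.stalk x) r := by
  haveI := hF.1
  obtain ⟨V, hV, hxV, -⟩ := exists_isAffineOpen_mem_and_subset (x := x) (U := ⊤) trivial
  rw [Groth.L21.CurveAdj.stI_eq_map _ hV hxV, Groth.L15.FittSheaf.sheafIdeal_ideal F hF.2 r ⟨V, hV⟩]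
  haveI := Groth.L20.ModStalk.finite_sections F hF hV
  letI := X.presheaf.algebra_section_stalk (⟨x, hxV⟩ : V)
  haveI := hV.isLocalization_stalk ⟨x, hxV⟩
  letI := Groth.L20.ModStalk.stalkModule F hxV
  haveI : IsScalarTower Γ(X, V) (X.presheaf.stalk x) (F.presheaf.stalk x) :=
    IsScalarTower.of_algebraMap_smul fun r m => rfl
  let P := (hV.primeIdealOf ⟨x, hxV⟩).asIdeal.primeCompl
  haveI := Groth.L20.ModStalk.isLocalizedModule_germ F hV hxV
  let e := (IsLocalizedModule.isBaseChange P (X.presheaf.stalk x) (Groth.L20.ModStalk.germₗ F hxV)).equiv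
  rw [← Groth.L13.Fitting.ideal_congr e r, Groth.L13.Fitting.ideal_baseChange]
  rfl

/-- Exactness at the middle on stalks. -/
theorem exact_st {A B C : X.Modules} {f : A ⟶ B} {g : B ⟶ C} {w : f ≫ g = 0}
    (hex : (ShortComplex.mk f g w).Exact) (x : X) :
    LinearMap.range (st f x) = LinearMap.ker (st g x) := by
  have h := hex.map (Groth.L00.Stk.F X x)
  ext v
  constructor
  · rintro ⟨u, rfl⟩
    rw [LinearMap.mem_ker, ← Groth.L21.RR.st_comp, w, st, Functor.map_zero]
    rfl
  · intro hv
    obtain ⟨u, hu⟩ := (ShortComplex.moduleCat_exact_iff _).1 h v hv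
    exact ⟨u, hu⟩

/-- The kernel of a surjection from a free module of rank one is cut out by the Fitting ideal. -/
theorem ker_eq_fitting_smul {R M C : Type u} [CommRing R] [AddCommGroup M] [Module R M] [AddCommGroup C]
    [Module R C] (e : R ≃ₗ[R] M) (g : M →ₗ[R] C) (hg : Function.Surjective g) :
    LinearMap.ker g = Fitt.ideal R C 0 • (⊤ : Submodule R M) := by
  have hs : Function.Surjective (g.comp e.toLinearMap) := hg.comp e.surjective
  haveI : Module.Finite R (R ⧸ LinearMap.ker (g.comp e.toLinearMap)) := inferInstance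
  have h1 : Fitt.ideal R C 0 = LinearMap.ker (g.comp e.toLinearMap) := by
    rw [← Groth.L13.Fitting.ideal_congr (LinearMap.quotKerEquivOfSurjective _ hs) 0]
    exact Groth.L15.FittEtale.fitting_quotient _
  rw [h1]
  refine le_antisymm (fun v hv => ?_) (Submodule.smul_le.2 fun r hr v _ => ?_)
  · obtain ⟨r, rfl⟩ := e.surjective v
    have h2 : e r = r • e 1 := by rw [← map_smul, smul_eq_mul, mul_one]
    rw [h2]
    exact Submodule.smul_mem_smul (by exact hv) Submodule.mem_top
  · obtain ⟨s, rfl⟩ := e.surjective v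
    rw [LinearMap.mem_ker, ← map_smul e, show r • s = s • r from mul_comm r s, map_smul, map_smul]
    exact (congrArg (s • ·) (show g (e r) = 0 from hr)).trans (smul_zero s)

/-- A subsheaf of an invertible module with coherent quotient is the twist by the Fitting ideal. -/
theorem nonempty_tensor_fitt_iso [IsIntegral X] {L M C : X.Modules} (hM : PicF.IsInvertible M)
    (φ : L ⟶ M) [Mono φ] (π : M ⟶ C) [Epi π] (w : φ ≫ π = 0) (hex : (ShortComplex.mk φ π w).Exact)
    (hC : Coh.IsCoh C) :
    Nonempty (CohB1.tensorMod M (ClSub.idealMod (Fitt.sheafIdeal C 0)) ≅ L) := by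
  haveI : Mono (ClSub.idealModι (Fitt.sheafIdeal C 0)) := by
    unfold ClSub.idealModι
    infer_instance
  haveI := Groth.L17.ChangeRings.preservesMono_tensorLeftF
    (Groth.L29.DC.isFlat_of_isFinLocFree (Groth.L16.Existence.isFinLocFree_of_isInvertible hM))
  haveI : Mono (Groth.L00.Tensor.tensorMap (𝟙 M) (ClSub.idealModι (Fitt.sheafIdeal C 0))) :=
    (Groth.L00.Tensor.tensorLeftF M).map_mono (ClSub.idealModι (Fitt.sheafIdeal C 0))
  refine Groth.L21.CurveAdj.nonempty_iso_of_range (Groth.L00.Tensor.tensorMap (𝟙 M)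
    (ClSub.idealModι (Fitt.sheafIdeal C 0)) ≫ (Groth.L00.Tensor.tensorUnitRight M).hom) φ fun x => ?_
  rw [Groth.L21.CurveAdj.range_tensor_idealModι hM, stI_sheafIdeal C hC 0 x, exact_st hex x]
  obtain ⟨e, he⟩ := Groth.L21.RR.exists_frame_stalk hM x
  refine (ker_eq_fitting_smul (LinearEquiv.ofBijective
    (LinearMap.toSpanSingleton (X.presheaf.stalk x) (M.presheaf.stalk x) e) he) (st π x) ?_).symm
  exact (Groth.L21.Mod.epi_iff_stalk_surjective π).1 inferInstance x

end Groth.L21.Disc
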