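import Groth.Agent.L21.Disc.DoubleCover
import Groth.Agent.S11357
import Groth.Agent.L21.Duality.Pairing
import Groth.Agent.L21.CastSev.Elliptic
import Groth.Agent.L05.CodimFlat.Finite
import Groth.Agent.L29.DCoh.PullTensor
import Groth.Agent.L16.GenSmooth.Basic

/-!
The differentials of a double cover descend.
-/

set_option autoImplicit false
set_option backward.isDefEq.respectTransparency false
set_option linter.style.haveILetI false
universe u

open CategoryTheory CategoryTheory.Limits AlgebraicGeometry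
open Groth.L12.SymSq (InvQuot)
open Groth.L00.Tensor

noncomputable section

namespace Groth.L21.DoubleCover

/-- A finite morphism of integral schemes gives an algebraic extension of function fields. -/
theorem isAlgebraic_functionField {X Y : Scheme.{u}} [IsIntegral X] [IsIntegral Y] (f : X ⟶ Y) [IsFinite f]
    (hdom : f (genericPoint X) = genericPoint Y) :
    letI := ((Y.presheaf.stalkSpecializes (specializes_of_eq hdom) ≫ f.stalkMap (genericPoint X)).hom).toAlgebra
    Algebra.IsAlgebraic Y.functionField X.functionField := by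
  letI := ((Y.presheaf.stalkSpecializes (specializes_of_eq hdom) ≫ f.stalkMap (genericPoint X)).hom).toAlgebra
  obtain ⟨U, hU, hηU, -⟩ := exists_isAffineOpen_mem_and_subset (x := genericPoint Y) (U := ⊤) trivial
  haveI : Nonempty U := ⟨⟨_, hηU⟩⟩
  haveI : Nonempty (f ⁻¹ᵁ U : X.Opens) := ⟨⟨genericPoint X, show f (genericPoint X) ∈ U by rw [hdom]; exact hηU⟩⟩
  haveI := functionField_isFractionRing_of_isAffineOpen X (f ⁻¹ᵁ U) (hU.preimage f)
  letI := Groth.L21.Disc.secAlg f U
  letI : Algebra Γ(Y, U) X.functionField :=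
    ((algebraMap Γ(X, f ⁻¹ᵁ U) X.functionField).comp (algebraMap Γ(Y, U) Γ(X, f ⁻¹ᵁ U))).toAlgebra
  haveI : IsScalarTower Γ(Y, U) Γ(X, f ⁻¹ᵁ U) X.functionField := IsScalarTower.of_algebraMap_eq' rfl
  haveI : IsScalarTower Γ(Y, U) Y.functionField X.functionField := IsScalarTower.of_algebraMap_eq fun r =>
    (Groth.L21.Disc.overMap_germ f (genericPoint X) (genericPoint Y) hdom U hηU r).symm
  haveI : Module.Finite Γ(Y, U) Γ(X, f ⁻¹ᵁ U) := f.finite_app U hU
  refine ⟨fun z => ?_⟩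
  obtain ⟨b, c, -, rfl⟩ := IsFractionRing.div_surjective (A := Γ(X, f ⁻¹ᵁ U)) z
  have hint : ∀ r : Γ(X, f ⁻¹ᵁ U), _root_.IsIntegral Y.functionField (algebraMap Γ(X, f ⁻¹ᵁ U) X.functionField r) :=
    fun r => ((Algebra.IsIntegral.isIntegral (R := Γ(Y, U)) r).algebraMap).tower_top
  rw [div_eq_mul_inv]
  exact ((hint b).mul (hint c).inv).isAlgebraic

variable {k : Type u} [Field k] [IsAlgClosed k] [CharZero k] {X Y : Scheme.{u}}
  [X.Over (Spec (CommRingCat.of k))] [Y.Over (Spec (CommRingCat.of k))]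
  [IsIntegral X] [IsProper (X ↘ Spec (CommRingCat.of k))] [Smooth (X ↘ Spec (CommRingCat.of k))]
  [IsIntegral Y] [IsProper (Y ↘ Spec (CommRingCat.of k))] [Smooth (Y ↘ Spec (CommRingCat.of k))]

/-- The differentials of a double cover are pulled back from the quotient. -/
theorem exists_omega_descent (hdimX : topologicalKrullDim X = 1) (hdimY : topologicalKrullDim Y = 1)
    {σ : X ⟶ X} (hσS : σ ≫ (X ↘ Spec (CommRingCat.of k)) = X ↘ Spec (CommRingCat.of k)) (hσ1 : σ ≠ 𝟙 X)
    (π : X ⟶ Y) [IsFinite π] [Flat π] (hπ : π ≫ (Y ↘ Spec (CommRingCat.of k)) = X ↘ Spec (CommRingCat.of k))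
    (hrk : ∀ y : Y, Scheme.Hom.finrank π y = 2) (hσπ : σ ≫ π = π) :
    ∃ h : InvQuot π σ, (∀ c : Γ(X, ⊤), ∃ a : Γ(Y, ⊤), π.app ⊤ a = c) ∧
      ∃ Δ : Y.Modules, PicF.IsInvertible Δ ∧ Nonempty (CohB1.tensorMod Δ h.anti ≅ Coh.structureModule Y) ∧
        Nonempty ((Scheme.Modules.pullback π).obj (CohB1.tensorMod (Omega.sheaf (Y ↘ Spec (CommRingCat.of k))) Δ) ≅
          Omega.sheaf (X ↘ Spec (CommRingCat.of k))) := by
  haveI := Groth.L21.RR.isNoetherian_of_proper (X := X) k
  haveI := Groth.L21.RR.isNoetherian_of_proper (X := Y) k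
  haveI : X.IsSeparated := ⟨by
    rw [show terminal.from X = (X ↘ Spec (CommRingCat.of k)) ≫ terminal.from _ from terminal.hom_ext _ _]
    infer_instance⟩
  haveI : LocallyOfFinitePresentation π := inferInstance
  have h2k : (2 : k) ≠ 0 := two_ne_zero
  have h : InvQuot π σ := invQuot_of_doubleCover hrk (Groth.L12.HypInvol.isUnit_two_sections h2k) hσ1 hσπ
  have hΔ := Groth.L12.HypInvol.isFixedScheme_fix hσS
  have hI := Groth.L12.HypInvol.isInvertible_fix hσS hσ1 hdimX
  haveI : Surjective π := (Scheme.Hom.one_le_finrank_iff_surjective π).1 fun y => by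
    show 1 ≤ π.finrank y
    rw [hrk y]; omega
  refine ⟨h, fun c => ?_, ?_⟩
  · haveI : Nonempty (⊤ : X.Opens) := ⟨⟨genericPoint X, trivial⟩⟩
    haveI : Nontrivial Γ(X, ⊤) := inferInstance
    obtain ⟨d, hd⟩ := Groth.L21.PlaneCurve.exists_const (k := k) (Groth.L21.RR.h0_eq_one_of_isAlgClosed k) c
    refine ⟨Coh.toGlobal (Y ↘ Spec (CommRingCat.of k)) d, ?_⟩
    rw [← hd]
    simp only [Coh.toGlobal, ← hπ]
    rfl
  have hA : PicF.IsInvertible h.anti := h.isInvertible_anti hΔ hI π.surjective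
  obtain ⟨Δ, hΔi, ⟨i⟩⟩ := Groth.L08.Cube.exists_inverse hA
  refine ⟨Δ, hΔi, ⟨tensorComm _ _ ≪≫ i⟩, ?_⟩
  have hdom : π (genericPoint X) = genericPoint Y := Groth.L05.CodimFlat.map_genericPoint π
  letI := ((Y.presheaf.stalkSpecializes (specializes_of_eq hdom) ≫ π.stalkMap (genericPoint X)).hom).toAlgebra
  haveI : CharZero Y.functionField := Groth.L16.GenSmooth.charZero_functionField (Y ↘ Spec (CommRingCat.of k))
  haveI : Algebra.IsAlgebraic Y.functionField X.functionField := isAlgebraic_functionField π hdom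
  obtain ⟨j⟩ := Groth.Agent.S11357.key π (Y ↘ Spec (CommRingCat.of k)) _ hπ
    (Groth.L21.Duality.isInvertible_omega (k := k) hdimX)
    (Groth.L18.Ample.isInvertible_pullback π (Groth.L21.Duality.isInvertible_omega (k := k) hdimY))
    (Groth.L21.Disc.isLenSpec_genericPoint π hdom inferInstance)
  obtain ⟨p⟩ := h.nonempty_pullback_anti hΔ hI
  have hF := fitt_omega h hΔ hI
  let P := Scheme.Modules.pullback π
  -- `π^* A ⊗ π^* Δ` is trivial
  let t : CohB1.tensorMod (P.obj h.anti) (P.obj Δ) ≅ Coh.structureModule X :=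
    Groth.L29.DC.PullTensor.pullTensor π h.anti Δ ≪≫ P.mapIso i ≪≫ Groth.L29.LocFree.pullbackUnitIso π
  exact ⟨(Groth.L29.DC.PullTensor.pullTensor π _ Δ).symm ≪≫
    tensorIso (j.symm ≪≫ eqToIso (by rw [hF]) ≪≫ tensorIso (Iso.refl _) p.symm) (Iso.refl _) ≪≫
      tensorAssoc _ _ _ ≪≫ tensorIso (Iso.refl _) t ≪≫ tensorUnitRight _⟩

end Groth.L21.DoubleCover
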