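import Groth.Agent.L21.Disc.Semilocal
import Groth.Agent.L21.Tame.Different
import Mathlib.RingTheory.Trace.Quotient

/-!
The exponents of the different of a finite extension of a discrete valuation ring.
-/

set_option autoImplicit false
set_option linter.style.haveILetI false
set_option linter.overlappingInstances false
universe u

open Module IsLocalRing
open scoped nonZeroDivisors

namespace Groth.L21.Disc

attribute [local instance] Ideal.Quotient.field FractionRing.liftAlgebra FractionRing.isScalarTower_liftAlgebra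

open Groth.L21.Tame (trace_eq_add_of_exact)

variable (A B : Type u) [CommRing A] [IsDomain A] [IsDiscreteValuationRing A] [CommRing B] [IsDomain B]
  [IsDedekindDomain B] [Algebra A B] [Module.Finite A B]

/-- Trace of multiplication on `B / P ^ j`. -/
theorem trace_quotient_pow (P : Ideal B) [P.IsMaximal] {ϖ : B} (hQ : P = Ideal.span {ϖ}) (hϖ0 : ϖ ≠ 0)
    (hP : maximalIdeal A ≤ P.comap (algebraMap A B)) (x : B) :
    ∀ (j : ℕ) (h : maximalIdeal A ≤ (P ^ j).comap (algebraMap A B)),
      (letI := Ideal.Quotient.algebraQuotientOfLEComap h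
       Algebra.trace (A ⧸ maximalIdeal A) (B ⧸ P ^ j) (Ideal.Quotient.mk _ x)) =
      j * (letI := Ideal.Quotient.algebraQuotientOfLEComap hP
        Algebra.trace (A ⧸ maximalIdeal A) (B ⧸ P) (Ideal.Quotient.mk _ x))
  | 0, h => by
    letI := Ideal.Quotient.algebraQuotientOfLEComap h
    haveI : Subsingleton (B ⧸ P ^ 0) :=
      Ideal.Quotient.subsingleton_iff.mpr (by rw [pow_zero, Ideal.one_eq_top])
    rw [Subsingleton.elim (Ideal.Quotient.mk (P ^ 0) x) 0, map_zero, Nat.cast_zero, zero_mul]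
  | j + 1, h => by
    have hj : maximalIdeal A ≤ (P ^ j).comap (algebraMap A B) :=
      h.trans (Ideal.comap_mono (Ideal.pow_le_pow_right j.le_succ))
    have h1 : maximalIdeal A ≤ (P).comap (algebraMap A B) :=
      h.trans (Ideal.comap_mono ((Ideal.pow_le_pow_right j.succ_pos).trans (pow_one _).le))
    have ih := trace_quotient_pow P hQ hϖ0 hP x j hj
    letI := Ideal.Quotient.algebraQuotientOfLEComap h
    letI := Ideal.Quotient.algebraQuotientOfLEComap hj
    letI : Algebra (A ⧸ maximalIdeal A) (B ⧸ P) := Ideal.Quotient.algebraQuotientOfLEComap h1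
    haveI : IsScalarTower A (A ⧸ maximalIdeal A) (B ⧸ P ^ (j + 1)) := .of_algebraMap_eq' rfl
    haveI : IsScalarTower A (A ⧸ maximalIdeal A) (B ⧸ P ^ j) := .of_algebraMap_eq' rfl
    haveI : IsScalarTower A (A ⧸ maximalIdeal A) (B ⧸ P) := .of_algebraMap_eq' rfl
    haveI : Module.Finite (A ⧸ maximalIdeal A) (B ⧸ P ^ (j + 1)) :=
      Module.Finite.of_restrictScalars_finite A _ _
    let ι₀ : (B ⧸ P) →ₗ[B] B ⧸ P ^ (j + 1) :=
      Submodule.liftQ (P) ((ϖ ^ j) • (Ideal.Quotient.mkₐ B (P ^ (j + 1))).toLinearMap)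
        (fun b hb => by
          rw [LinearMap.mem_ker]
          show ϖ ^ j • Ideal.Quotient.mk (P ^ (j + 1)) b = 0
          rw [Algebra.smul_def]
          show Ideal.Quotient.mk (P ^ (j + 1)) (ϖ ^ j) * _ = 0
          rw [← map_mul, Ideal.Quotient.eq_zero_iff_mem, pow_succ (P)]
          exact Ideal.mul_mem_mul (Ideal.pow_mem_pow (hQ ▸ Ideal.mem_span_singleton_self ϖ) j) hb)
    have hι₀ : ∀ b, ι₀ (Ideal.Quotient.mk _ b) = Ideal.Quotient.mk _ (ϖ ^ j * b) := fun b => by
      show ϖ ^ j • Ideal.Quotient.mk (P ^ (j + 1)) b = _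
      rw [Algebra.smul_def, map_mul]
      rfl
    let π₀ : (B ⧸ P ^ (j + 1)) →ₗ[B] B ⧸ P ^ j :=
      Submodule.factor (Ideal.pow_le_pow_right j.le_succ)
    let ι := (ι₀.restrictScalars A).extendScalarsOfSurjective
      (show Function.Surjective (algebraMap A (A ⧸ maximalIdeal A)) from Ideal.Quotient.mk_surjective)
    let π := (π₀.restrictScalars A).extendScalarsOfSurjective
      (show Function.Surjective (algebraMap A (A ⧸ maximalIdeal A)) from Ideal.Quotient.mk_surjective)
    have hinj : Function.Injective ι := (injective_iff_map_eq_zero ι).mpr fun z hz => by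
      obtain ⟨b, rfl⟩ := Ideal.Quotient.mk_surjective z
      have hz' : Ideal.Quotient.mk (P ^ (j + 1)) (ϖ ^ j * b) = 0 := (hι₀ b).symm.trans hz
      rw [Ideal.Quotient.eq_zero_iff_mem, hQ, Ideal.span_singleton_pow, Ideal.mem_span_singleton, pow_succ] at hz'
      rw [Ideal.Quotient.eq_zero_iff_mem, hQ, Ideal.mem_span_singleton]
      exact (mul_dvd_mul_iff_left (pow_ne_zero j hϖ0)).mp hz'
    have hex : Function.Exact ι π := by
      intro z
      obtain ⟨b, rfl⟩ := Ideal.Quotient.mk_surjective z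
      constructor
      · intro hz
        have hz' : b ∈ P ^ j := Ideal.Quotient.eq_zero_iff_mem.mp hz
        rw [hQ, Ideal.span_singleton_pow, Ideal.mem_span_singleton] at hz'
        obtain ⟨c, rfl⟩ := hz'
        exact ⟨Ideal.Quotient.mk _ c, hι₀ c⟩
      · rintro ⟨c, hc⟩
        obtain ⟨c, rfl⟩ := Ideal.Quotient.mk_surjective c
        rw [← hc]
        show π₀ (ι₀ (Ideal.Quotient.mk _ c)) = 0
        rw [hι₀]
        exact Ideal.Quotient.eq_zero_iff_mem.mpr
          (Ideal.mul_mem_right _ _ (Ideal.pow_mem_pow (hQ ▸ Ideal.mem_span_singleton_self ϖ) j))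
    have hmain := trace_eq_add_of_exact ι π hinj (Submodule.factor_surjective (Ideal.pow_le_pow_right j.le_succ)) hex
      (Algebra.lmul (A ⧸ maximalIdeal A) _ (Ideal.Quotient.mk (P) x))
      (Algebra.lmul (A ⧸ maximalIdeal A) _ (Ideal.Quotient.mk (P ^ (j + 1)) x))
      (Algebra.lmul (A ⧸ maximalIdeal A) _ (Ideal.Quotient.mk (P ^ j) x))
      (by
        apply LinearMap.ext; intro z
        obtain ⟨b, rfl⟩ := Ideal.Quotient.mk_surjective z
        show Ideal.Quotient.mk _ x * ι₀ (Ideal.Quotient.mk _ b) = ι₀ (Ideal.Quotient.mk _ x * Ideal.Quotient.mk _ b)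
        rw [← map_mul (Ideal.Quotient.mk (P)), hι₀, hι₀, ← map_mul, mul_left_comm])
      (by
        apply LinearMap.ext; intro z
        obtain ⟨b, rfl⟩ := Ideal.Quotient.mk_surjective z
        rfl)
    simp only [Algebra.trace_apply] at ih ⊢
    rw [hmain]
    erw [ih]
    rw [Nat.cast_succ, add_mul, one_mul, add_comm]

variable [FaithfulSMul A B] [Algebra.IsSeparable (FractionRing A) (FractionRing B)]

set_option maxHeartbeats 800000 in
/-- The exponent of the different at a prime is at least `e - 1`, with equality exactly in the tame case. -/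
theorem different_exponent (P Q : Ideal B) [P.IsMaximal] {e : ℕ} (he : 0 < e) (hPQ : IsCoprime P Q)
    (hp : (maximalIdeal A).map (algebraMap A B) = P ^ e * Q)
    (hP : maximalIdeal A ≤ P.comap (algebraMap A B)) :
    P ^ (e - 1) ∣ differentIdeal A B ∧
      (letI := Ideal.Quotient.algebraQuotientOfLEComap hP
       ¬ P ^ e ∣ differentIdeal A B ↔
        Algebra.IsSeparable (A ⧸ maximalIdeal A) (B ⧸ P) ∧ ((e : ℕ) : A ⧸ maximalIdeal A) ≠ 0) := by
  have hpA : maximalIdeal A ≠ ⊥ := IsDiscreteValuationRing.not_a_field A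
  have hp' : (maximalIdeal A).map (algebraMap A B) ≠ ⊥ :=
    (Ideal.map_eq_bot_iff_of_injective (FaithfulSMul.algebraMap_injective A B)).not.mpr hpA
  have hPbot : P ≠ ⊥ := by
    rintro rfl
    exact hp' (by rw [hp, ← Ideal.zero_eq_bot, zero_pow he.ne', zero_mul, Ideal.zero_eq_bot])
  have hQbot : Q ≠ ⊥ := fun h => hp' (by rw [hp, h, Ideal.mul_bot])
  refine ⟨pow_sub_one_dvd_differentIdeal A P e hpA (hp ▸ dvd_mul_right _ _), ?_⟩
  haveI := isPrincipalIdealRing A B
  obtain ⟨ϖ, hϖ⟩ := (IsPrincipalIdealRing.principal P).principal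
  have hϖ0 : ϖ ≠ 0 := fun h => hPbot (by rw [hϖ, h]; simp)
  have hPe : maximalIdeal A ≤ (P ^ e).comap (algebraMap A B) :=
    Ideal.map_le_iff_le_comap.mp (hp.le.trans Ideal.mul_le_left)
  have hQ' : maximalIdeal A ≤ Q.comap (algebraMap A B) :=
    Ideal.map_le_iff_le_comap.mp (hp.le.trans Ideal.mul_le_right)
  letI := Ideal.Quotient.algebraQuotientOfLEComap hP
  letI algPe := Ideal.Quotient.algebraQuotientOfLEComap hPe
  letI algQ := Ideal.Quotient.algebraQuotientOfLEComap hQ'
  haveI : IsScalarTower A (A ⧸ maximalIdeal A) (B ⧸ P ^ e) := .of_algebraMap_eq' rfl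
  haveI : IsScalarTower A (A ⧸ maximalIdeal A) (B ⧸ Q) := .of_algebraMap_eq' rfl
  haveI : IsScalarTower A (A ⧸ maximalIdeal A) (B ⧸ P) := .of_algebraMap_eq' rfl
  haveI : Module.Finite (A ⧸ maximalIdeal A) (B ⧸ P ^ e) := Module.Finite.of_restrictScalars_finite A _ _
  haveI : Module.Finite (A ⧸ maximalIdeal A) (B ⧸ Q) := Module.Finite.of_restrictScalars_finite A _ _
  haveI : Module.Finite (A ⧸ maximalIdeal A) (B ⧸ P) := Module.Finite.of_restrictScalars_finite A _ _
  have hcop : IsCoprime (P ^ e) Q := hPQ.pow_left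
  let E : (B ⧸ (maximalIdeal A).map (algebraMap A B)) ≃ₐ[A ⧸ maximalIdeal A] ((B ⧸ P ^ e) × B ⧸ Q) :=
    { __ := (Ideal.quotEquivOfEq hp).trans (Ideal.quotientMulEquivQuotientProd (P ^ e) Q hcop),
      commutes' := Quotient.ind fun _ ↦ rfl }
  have key : ∀ x ∈ Q, Ideal.Quotient.mk (maximalIdeal A) (Algebra.intTrace A B x) =
      (e : A ⧸ maximalIdeal A) * Algebra.trace (A ⧸ maximalIdeal A) (B ⧸ P) (Ideal.Quotient.mk P x) := by
    intro x hx
    rw [← trace_quotient_pow A B P hϖ hϖ0 hP x e hPe, ← Algebra.trace_quotient_eq_of_isDedekindDomain,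
      ← Algebra.trace_eq_of_algEquiv E, Algebra.trace_prod_apply]
    have h2 : (E (Ideal.Quotient.mk _ x)).2 = 0 := by
      show Ideal.Quotient.mk Q x = 0
      exact Ideal.Quotient.eq_zero_iff_mem.2 hx
    rw [h2, map_zero, add_zero]
    rfl
  constructor
  · intro hnd
    by_contra hnt
    apply hnd
    have hall : ∀ x ∈ Q, Algebra.intTrace A B x ∈ maximalIdeal A := by
      intro x hx
      rw [← Ideal.Quotient.eq_zero_iff_mem, key x hx]
      by_cases hs : Algebra.IsSeparable (A ⧸ maximalIdeal A) (B ⧸ P)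
      · have he0 : ((e : ℕ) : A ⧸ maximalIdeal A) = 0 := by_contra fun h => hnt ⟨hs, h⟩
        rw [he0, zero_mul]
      · rw [Algebra.trace_eq_zero_of_not_isSeparable hs]
        simp
    let K := FractionRing A
    let L := FractionRing B
    haveI : IsLocalization (Algebra.algebraMapSubmonoid B A⁰) L := IsIntegralClosure.isLocalization _ K _ _
    haveI : FiniteDimensional K L := .of_isLocalization A B A⁰
    have hinv : (((P ^ e : Ideal B) : FractionalIdeal B⁰ L))⁻¹ = (Q : FractionalIdeal B⁰ L) /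
        ((maximalIdeal A).map (algebraMap A B) : FractionalIdeal B⁰ L) := by
      apply inv_involutive.injective
      simp only [hp, FractionalIdeal.coeIdeal_mul, inv_div, mul_div_assoc]
      rw [div_self (by simpa using hQbot), mul_one, inv_inv]
    rw [Ideal.dvd_iff_le, differentialIdeal_le_iff (K := K) (L := L) (pow_ne_zero _ hPbot), hinv,
      Submodule.map_le_iff_le_comap]
    intro x hx
    rw [Submodule.restrictScalars_mem, FractionalIdeal.mem_coe,
      FractionalIdeal.mem_div_iff_of_ne_zero (by simpa using hp')] at hx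
    rw [Submodule.mem_comap, LinearMap.coe_restrictScalars, ← FractionalIdeal.coe_one,
      ← div_self (G₀ := FractionalIdeal A⁰ K) (a := ((maximalIdeal A : Ideal A) : FractionalIdeal A⁰ K))
        (by simpa using hpA),
      FractionalIdeal.mem_coe, FractionalIdeal.mem_div_iff_of_ne_zero (by simpa using hpA)]
    simp only [FractionalIdeal.mem_coeIdeal, forall_exists_index, and_imp,
      forall_apply_eq_imp_iff₂] at hx
    intro y hy'
    obtain ⟨y, hy, rfl : algebraMap A K _ = _⟩ := (FractionalIdeal.mem_coeIdeal _).mp hy'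
    obtain ⟨z, hz, hz'⟩ := hx _ (Ideal.mem_map_of_mem _ hy)
    have : Algebra.trace K L (algebraMap B L z) ∈ ((maximalIdeal A : Ideal A) : FractionalIdeal A⁰ K) := by
      rw [← Algebra.algebraMap_intTrace (A := A)]
      exact ⟨Algebra.intTrace A B z, hall z hz, rfl⟩
    rwa [mul_comm, ← smul_eq_mul, ← map_smul, Algebra.smul_def, mul_comm,
      ← IsScalarTower.algebraMap_apply, IsScalarTower.algebraMap_apply A B L, ← hz']
  · rintro ⟨hs, he0⟩
    obtain ⟨y, hy⟩ : ∃ y, Algebra.trace (A ⧸ maximalIdeal A) (B ⧸ P) y ≠ 0 := by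
      simpa [LinearMap.ext_iff] using Algebra.trace_ne_zero (A ⧸ maximalIdeal A) (B ⧸ P)
    obtain ⟨y₀, rfl⟩ := Ideal.Quotient.mk_surjective y
    obtain ⟨p, hp1, q, hq, hpq⟩ := Submodule.mem_sup.1
      (((Ideal.isCoprime_iff_sup_eq.1 hPQ).symm ▸ Submodule.mem_top) : (1 : B) ∈ P ⊔ Q)
    refine not_dvd_differentIdeal_of_intTrace_not_mem A (P ^ e) Q hp.symm (q * y₀) (Q.mul_mem_right _ hq) ?_
    rw [← Ideal.Quotient.eq_zero_iff_mem, key _ (Q.mul_mem_right _ hq)]
    refine mul_ne_zero he0 ?_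
    have : Ideal.Quotient.mk P (q * y₀) = Ideal.Quotient.mk P y₀ := by
      have hq1 : Ideal.Quotient.mk P q = 1 := by
        rw [← map_one (Ideal.Quotient.mk P), ← hpq, map_add, Ideal.Quotient.eq_zero_iff_mem.2 hp1, zero_add]
      rw [map_mul, hq1, one_mul]
    rw [this]
    exact hy

end Groth.L21.Disc
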