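import Groth.Agent.L21.Disc.LocalAlg
import Groth.Agent.L01.Disc.Syntomic
import Groth.Agent.L01.Disc.Fitt0
import Groth.Agent.L07.RegularLCI
import Groth.Agent.L07.SyntLCI
import Mathlib.LinearAlgebra.FreeModule.PID
import Mathlib.LinearAlgebra.Matrix.ToLinearEquiv
import Mathlib.RingTheory.Kaehler.Polynomial

/-!
The length of the module of differentials of a finite extension of a discrete valuation ring is the
exponent of the different.
-/

set_option autoImplicit false
set_option linter.style.haveILetI false
set_option linter.overlappingInstances false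
universe u v

open Module IsLocalRing UniqueFactorizationMonoid KaehlerDifferential
open scoped nonZeroDivisors

namespace Groth.L21.Disc

attribute [local instance] FractionRing.liftAlgebra FractionRing.isScalarTower_liftAlgebra

/-- A module with nonzero zeroth Fitting ideal over a discrete valuation ring has the length of the
quotient by that ideal. -/
theorem length_eq_length_quotient_fitt {O : Type u} [CommRing O] [IsDomain O] [IsDiscreteValuationRing O]
    {M : Type u} [AddCommGroup M] [Module O M] [Module.Finite O M] (h : Fitt.ideal O M 0 ≠ ⊥) :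
    Module.length O M = Module.length O (O ⧸ Fitt.ideal O M 0) := by
  classical
  obtain ⟨n, x, hx⟩ := Module.Finite.exists_fin (R := O) (M := M)
  rw [Groth.L01.Disc.Fitt0.ideal_zero_eq x hx] at h ⊢
  obtain ⟨a, ha, ha0⟩ : ∃ a : Matrix (Fin n) (Fin n) O, (∀ i, ∑ j, a i j • x j = 0) ∧ a.det ≠ 0 := by
    by_contra hno
    push Not at hno
    refine h (Ideal.span_eq_bot.2 ?_)
    rintro - ⟨a, ha, rfl⟩
    exact hno a ha
  let π : (Fin n → O) →ₗ[O] M := Fintype.linearCombination O x
  have hπ : Function.Surjective π := by
    rw [← LinearMap.range_eq_top, Fintype.range_linearCombination, hx]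
  let W := LinearMap.ker π
  let bW := Submodule.basisOfPid (Pi.basisFun O (Fin n)) W
  have hm : bW.1 = n := by
    have h1 : Module.finrank O W = bW.1 := by rw [Module.finrank_eq_card_basis bW.2, Fintype.card_fin]
    have hrow : ∀ i, a i ∈ W := fun i => by
      rw [LinearMap.mem_ker, Fintype.linearCombination_apply]
      exact ha i
    have hli : LinearIndependent O (fun i => (⟨a i, hrow i⟩ : W)) := by
      refine LinearIndependent.of_comp W.subtype ?_
      rw [Fintype.linearIndependent_iff]
      intro g hg
      by_contra hg0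
      push Not at hg0
      refine ha0 (Matrix.exists_vecMul_eq_zero_iff.1 ⟨g, fun h0 => ?_, ?_⟩)
      · obtain ⟨i, hi⟩ := hg0
        exact hi (congrFun h0 i)
      · funext j
        have := congrFun hg j
        simpa [Matrix.vecMul, dotProduct, Finset.sum_apply] using this
    have h2 := hli.fintype_card_le_finrank
    have h3 := Submodule.finrank_le W
    rw [Fintype.card_fin] at h2
    rw [Module.finrank_fin_fun] at h3
    omega
  obtain ⟨m, b⟩ := bW
  dsimp only at hm
  subst hm
  let J : Matrix (Fin m) (Fin m) O := Matrix.of fun i => (b i : Fin m → O)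
  have hJ : ∀ i, ∑ j, J i j • x j = 0 := fun i => by
    have := LinearMap.mem_ker.1 (b i).2
    rwa [Fintype.linearCombination_apply] at this
  have hspanJ : Submodule.span O (Set.range fun i => (b i : Fin m → O)) = W := by
    rw [show (fun i => (b i : Fin m → O)) = W.subtype ∘ b from rfl, Set.range_comp, ← Submodule.map_span,
      b.span_eq, Submodule.map_top, Submodule.range_subtype]
  have hall : ∀ c : Fin m → O, ∑ j, c j • x j = 0 → ∃ w : Fin m → O, ∀ j, c j = ∑ i, w i * J i j := fun c hc => by
    have hcW : c ∈ W := by rw [LinearMap.mem_ker, Fintype.linearCombination_apply]; exact hc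
    rw [← hspanJ] at hcW
    obtain ⟨w, hw⟩ := (Submodule.mem_span_range_iff_exists_fun O).1 hcW
    exact ⟨w, fun j => by simpa [Finset.sum_apply, J] using (congrFun hw j).symm⟩
  rw [Groth.L01.Disc.Fitt0.rel0_eq_span_det x J hJ hall]
  have hJ0 : J.det ≠ 0 := fun h0 => h (by
    rw [Groth.L01.Disc.Fitt0.rel0_eq_span_det x J hJ hall, h0]; exact Ideal.span_singleton_eq_bot.2 rfl)
  have hlen := Groth.L22.CurveDeg.Det.length_quotient_span (A := O) (LinearEquiv.refl O (Fin m → O))
    (fun i => (b i : Fin m → O)) J (fun i => rfl) hJ0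
  rw [hspanJ] at hlen
  rw [← (π.quotKerEquivOfSurjective hπ).length_eq]
  exact hlen

variable (A B : Type u) [CommRing A] [IsDomain A] [IsDiscreteValuationRing A] [CommRing B] [IsDomain B]
  [IsDedekindDomain B] [Algebra A B] [Module.Finite A B] [FaithfulSMul A B]
  [Algebra.IsSeparable (FractionRing A) (FractionRing B)]

/-- The different as the set of elements dividing all dual forms. -/
theorem differentSet_eq_differentIdeal :
    Disc.differentSet A B = (differentIdeal A B : Set B) := by
  classical
  let K := FractionRing A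
  let L := FractionRing B
  haveI : IsLocalization (Algebra.algebraMapSubmonoid B A⁰) L := IsIntegralClosure.isLocalization _ K _ _
  haveI : FiniteDimensional K L := .of_isLocalization A B A⁰
  haveI : Module.Free A B := Module.free_of_finite_type_torsion_free'
  have hne : FractionalIdeal.dual A K (1 : FractionalIdeal B⁰ L) ≠ 0 := FractionalIdeal.dual_ne_zero A K one_ne_zero
  have hD : ∀ b : B, b ∈ differentIdeal A B ↔
      ∀ z ∈ Submodule.traceDual A K (1 : Submodule B L), algebraMap B L b * z ∈ (1 : Submodule B L) := fun b => by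
    have h1 : b ∈ differentIdeal A B ↔ algebraMap B L b ∈ ((differentIdeal A B : Ideal B) : FractionalIdeal B⁰ L) := by
      rw [FractionalIdeal.mem_coeIdeal]
      exact ⟨fun h => ⟨b, h, rfl⟩, fun ⟨c, hc, hbc⟩ => IsFractionRing.injective B L hbc ▸ hc⟩
    rw [h1, coeIdeal_differentIdeal A K L B, FractionalIdeal.mem_inv_iff hne]
    constructor
    · intro h z hz
      obtain ⟨c, hc⟩ := (FractionalIdeal.mem_one_iff B⁰).1 (h z (by
        rwa [← FractionalIdeal.mem_coe, FractionalIdeal.coe_dual_one]))
      exact Submodule.mem_one.2 ⟨c, hc⟩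
    · intro h z hz
      rw [← FractionalIdeal.mem_coe, FractionalIdeal.coe_dual_one] at hz
      obtain ⟨c, hc⟩ := Submodule.mem_one.1 (h z hz)
      exact (FractionalIdeal.mem_one_iff B⁰).2 ⟨c, hc⟩
  let e := Module.Free.chooseBasis A B
  let bL := e.localizationLocalization K A⁰ L
  have hbL : ∀ i, bL i = algebraMap B L (e i) := e.localizationLocalization_apply K A⁰ L
  haveI : Fintype (Module.Free.ChooseBasisIndex A B) := inferInstance
  have hT : ∀ w : B, Algebra.trace K L (algebraMap B L w) = algebraMap A K (Algebra.trace A B w) := fun w =>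
    Algebra.trace_localization A A⁰ (Rₘ := K) (Sₘ := L) w
  have hscal : ∀ (z : L) (r : A) (v : B), Algebra.trace K L (z * algebraMap B L (r • v)) =
      algebraMap A K r * Algebra.trace K L (z * algebraMap B L v) := fun z r v => by
    rw [Algebra.smul_def r v, (algebraMap B L).map_mul, ← IsScalarTower.algebraMap_apply A B L,
      IsScalarTower.algebraMap_apply A K L, ← Algebra.smul_def, mul_smul_comm, LinearMap.map_smul, smul_eq_mul]
  ext b
  rw [SetLike.mem_coe, hD]
  constructor
  · intro hb z hz
    have hint : ∀ v : B, ∃ a : A, algebraMap A K a = Algebra.trace K L (z * algebraMap B L v) := fun v => by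
      obtain ⟨a, ha⟩ := Submodule.mem_traceDual.1 hz (algebraMap B L v) (Submodule.mem_one.2 ⟨v, rfl⟩)
      exact ⟨a, ha⟩
    choose a ha using hint
    let φ : B →ₗ[A] A :=
      { toFun := a
        map_add' := fun u v => by
          apply IsFractionRing.injective A K
          rw [map_add, ha, ha, ha, map_add, mul_add, map_add]
        map_smul' := fun r v => by
          apply IsFractionRing.injective A K
          rw [RingHom.id_apply, smul_eq_mul, (algebraMap A K).map_mul, ha, ha, hscal] }
    obtain ⟨c, hc⟩ := hb φ
    refine Submodule.mem_one.2 ⟨c, ?_⟩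
    apply eq_of_sub_eq_zero
    apply (traceForm_nondegenerate K L).1
    intro y
    have hlin : (Algebra.traceForm K L (algebraMap B L c - algebraMap B L b * z)) = 0 := bL.ext fun i => by
      rw [LinearMap.zero_apply, Algebra.traceForm_apply, hbL, sub_mul, map_sub, sub_eq_zero,
        ← (algebraMap B L).map_mul, hT, ← hc]
      show algebraMap A K (a (b * e i)) = _
      rw [ha, (algebraMap B L).map_mul]
      congr 1; ring
    rw [hlin, LinearMap.zero_apply]
  · intro hb φ
    obtain ⟨z, hz⟩ : ∃ z : L, ∀ i, Algebra.trace K L (z * bL i) = algebraMap A K (φ (e i)) := by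
      refine ⟨∑ j, algebraMap A K (φ (e j)) • bL.traceDual j, fun i => ?_⟩
      rw [Finset.sum_mul, map_sum]
      simp only [smul_mul_assoc, map_smul, smul_eq_mul, Basis.trace_traceDual_mul]
      simp
    have hzφ : ∀ w : B, Algebra.trace K L (z * algebraMap B L w) = algebraMap A K (φ w) := fun w => by
      conv_lhs => rw [← e.sum_repr w]
      conv_rhs => rw [← e.sum_repr w]
      simp only [map_sum, Finset.mul_sum, LinearMap.map_smul]
      refine Finset.sum_congr rfl fun i _ => ?_
      rw [hscal, ← hbL, hz, smul_eq_mul, (algebraMap A K).map_mul]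
    have hzdual : z ∈ Submodule.traceDual A K (1 : Submodule B L) := by
      rw [Submodule.mem_traceDual]
      intro w hw
      obtain ⟨w, rfl⟩ := Submodule.mem_one.1 hw
      exact ⟨φ w, (hzφ w).symm⟩
    obtain ⟨c, hc⟩ := Submodule.mem_one.1 (hb z hzdual)
    refine ⟨c, fun w => ?_⟩
    apply IsFractionRing.injective A K
    rw [← hT, (algebraMap B L).map_mul, hc, ← hzφ, (algebraMap B L).map_mul]
    congr 1; ring

/-- The Kähler different is the different. -/
theorem fitt_kaehler_eq_differentIdeal : Fitt.ideal B (Ω[B⁄A]) 0 = differentIdeal A B := by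
  haveI : Module.Free A B := Module.free_of_finite_type_torsion_free'
  have hlci : LCI.IsLCI A B := by
    have hft : Algebra.FiniteType A B := inferInstance
    obtain ⟨n, α, hα⟩ := Algebra.FiniteType.iff_quotient_mvPolynomial''.mp hft
    exact ⟨hft, n, α, hα, (Groth.L07.KoszulIdeal.isKoszulRegularIdeal_ker_iff α.toRingHom hα).mpr fun 𝔮 _ =>
      Groth.L07.KoszulIdeal.regAt_ker_of_regular α.toRingHom hα 𝔮⟩
  have hs := Groth.L07.SyntLCI.isSyntomic_of_flat_isLCI hlci
  refine SetLike.coe_injective ?_
  rw [← Groth.L01.Disc.noetherDifferent_eq_fitt hs, ← Groth.L01.Disc.differentSet_eq_noether hs]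
  exact differentSet_eq_differentIdeal A B

/-- The length of the differentials at a point is the exponent of the different. -/
theorem length_kaehler_eq_dexp (P : Ideal B) [P.IsMaximal] (hP : P ≠ ⊥) (O : Type u) [CommRing O] [IsDomain O]
    [IsLocalRing O] [Algebra B O] [IsLocalization.AtPrime O P] [Algebra A O] [IsScalarTower A B O] :
    Module.length O (Ω[O⁄A]) = dexp A P := by
  classical
  haveI := IsLocalization.AtPrime.isDiscreteValuationRing_of_dedekind_domain B hP O
  haveI : Algebra.EssFiniteType B O := Algebra.EssFiniteType.of_isLocalization O P.primeCompl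
  haveI : Algebra.EssFiniteType A O := Algebra.EssFiniteType.comp A B O
  have hFO : Fitt.ideal O (Ω[O⁄A]) 0 = maximalIdeal O ^ dexp A P := by
    have hD : differentIdeal A B ≠ ⊥ := differentIdeal_ne_bot
    rw [Groth.L01.Disc.Fitt0.ideal_zero_map P.primeCompl O (KaehlerDifferential.map A A B O),
      fitt_kaehler_eq_differentIdeal]
    obtain ⟨Q, hPQ, hfac⟩ := Ideal.eq_prime_pow_mul_coprime hD P
    rw [hfac, Ideal.map_mul, Ideal.map_pow, IsLocalization.AtPrime.map_eq_maximalIdeal]
    have hQP : ¬ Q ≤ P := fun h => by
      rw [sup_of_le_left h] at hPQ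
      exact Ideal.IsMaximal.ne_top ‹_› hPQ
    rw [IsLocalization.AtPrime.map_eq_top_of_not_le O hQP, Ideal.mul_top]
    rfl
  rw [length_eq_length_quotient_fitt (O := O) (by
    rw [hFO]; exact pow_ne_zero _ (IsDiscreteValuationRing.not_a_field O)), hFO]
  exact IsDiscreteValuationRing.length_quotient_pow_maximalIdeal (R := O) _

end Groth.L21.Disc
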