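import Groth.Agent.L21.Disc.LocalSum
import Groth.Agent.L21.Disc.Push
import Groth.Agent.L21.CurveFlat
import Mathlib.AlgebraicGeometry.Morphisms.QuasiFinite

/-!
The discriminant of a finite separable cover of normal curves near a closed point.
-/

set_option autoImplicit false
set_option backward.isDefEq.respectTransparency false
set_option linter.style.haveILetI false
universe u

open CategoryTheory CategoryTheory.Limits AlgebraicGeometry TopologicalSpace Opposite Module IsLocalRing

noncomputable section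

namespace Groth.L21.Disc

open Groth.L22.CurveDeg.Det (IsBasisS)

/-- Bound and criterion for a candidate exponent along a local map of local rings. -/
def IsTameSpec {A O : Type u} [CommRing A] [IsLocalRing A] [CommRing O] [IsLocalRing O] (φ : A →+* O)
    [IsLocalHom φ] (d : ℕ) : Prop :=
  letI := φ.toAlgebra
  letI := (ResidueField.map φ).toAlgebra
  (maximalIdeal O).ramificationIdx A - 1 ≤ d ∧
    (d = (maximalIdeal O).ramificationIdx A - 1 ↔
      Algebra.IsSeparable (ResidueField A) (ResidueField O) ∧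
        (((maximalIdeal O).ramificationIdx A : ℕ) : ResidueField A) ≠ 0)

/-- The candidate exponent is the length of the module of differentials. -/
def IsLenSpec {A O : Type u} [CommRing A] [CommRing O] (φ : A →+* O) (d : ℕ) : Prop :=
  letI := φ.toAlgebra
  Module.length O (KaehlerDifferential A O) = d

theorem IsLenSpec.congr {A O : Type u} [CommRing A] [CommRing O] {φ ψ : A →+* O} (h : φ = ψ) {d : ℕ}
    (hd : IsLenSpec φ d) : IsLenSpec ψ d := h ▸ hd

theorem IsTameSpec.congr {A O : Type u} [CommRing A] [IsLocalRing A] [CommRing O] [IsLocalRing O] {φ ψ : A →+* O}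
    (h : φ = ψ) [IsLocalHom φ] [IsLocalHom ψ] {d : ℕ} (hd : IsTameSpec φ d) : IsTameSpec ψ d := by
  subst h; exact hd

variable {X Y : Scheme.{u}} (f : X ⟶ Y)

/-- The map on local rings at a point over a given point. -/
def overMap (x : X) (y : Y) (h : f x = y) : Y.presheaf.stalk y →+* X.presheaf.stalk x :=
  (Y.presheaf.stalkSpecializes (specializes_of_eq h) ≫ f.stalkMap x).hom

theorem overMap_self (x : X) : overMap f x (f x) rfl = (f.stalkMap x).hom := by
  rw [overMap, TopCat.Presheaf.stalkSpecializes_refl, Category.id_comp]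

instance (x : X) (y : Y) (h : f x = y) : IsLocalHom (overMap f x y h) := by
  subst h
  rw [overMap_self]
  infer_instance

theorem overMap_germ (x : X) (y : Y) (h : f x = y) (U : Y.Opens) (hy : y ∈ U) (r : Γ(Y, U)) :
    overMap f x y h (Y.presheaf.germ U y hy r) =
      X.presheaf.germ (f ⁻¹ᵁ U) x (show f x ∈ U from h ▸ hy) (f.app U r) := by
  subst h
  rw [overMap_self]
  exact Scheme.Hom.germ_stalkMap_apply f U x hy r

theorem finrank_overMap (x : X) (y : Y) (h : f x = y) :
    (letI := (ResidueField.map (overMap f x y h)).toAlgebra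
     Module.finrank (ResidueField (Y.presheaf.stalk y)) (ResidueField (X.presheaf.stalk x))) =
      f.residueDegree x := by
  subst h
  have key : ∀ (ψ : Y.presheaf.stalk (f x) →+* X.presheaf.stalk x) [IsLocalHom ψ],
      ψ = (f.stalkMap x).hom →
      (letI := (ResidueField.map ψ).toAlgebra
       Module.finrank (ResidueField (Y.presheaf.stalk (f x))) (ResidueField (X.presheaf.stalk x))) =
        f.residueDegree x := by
    rintro ψ _ rfl
    rfl
  exact key _ (overMap_self f x)

variable [IsFinite f] [IsIntegral X] [IsIntegral Y] [IsLocallyNoetherian X] [IsLocallyNoetherian Y]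

open Classical in
set_option maxHeartbeats 1000000 in
/-- The order of the discriminant at a closed point as a sum over the fibre. -/
theorem exists_exponents (hdX : topologicalKrullDim X ≤ 1) (hdY : topologicalKrullDim Y ≤ 1)
    (hnX : ∀ x : X, IsDomain (X.presheaf.stalk x) ∧ IsIntegrallyClosed (X.presheaf.stalk x))
    (hnY : ∀ y : Y, IsDomain (Y.presheaf.stalk y) ∧ IsIntegrallyClosed (Y.presheaf.stalk y))
    (hdom : f (genericPoint X) = genericPoint Y)
    (hsep : letI := ((Y.presheaf.stalkSpecializes (specializes_of_eq hdom) ≫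
      f.stalkMap (genericPoint X)).hom).toAlgebra
      Algebra.IsSeparable Y.functionField X.functionField)
    {n : ℕ} {U : Y.Opens} {e : Fin n → Γ(pushO f, U)} (hU : IsAffineOpen U) (he : IsBasisS (pushO f) e)
    (y : Y) (hy : y ∈ U) (hy0 : y ≠ genericPoint Y) (F : Finset X) (hF : ∀ x, x ∈ F ↔ f x = y) :
    ∃ d : X → ℕ,
      (Ring.ord (Y.presheaf.stalk y) (Y.presheaf.germ U y hy (disc f e))).toNat =
        ∑ x ∈ F, d x * f.residueDegree x ∧
      ∀ x, f x = y → IsTameSpec (f.stalkMap x).hom (d x) ∧ IsLenSpec (f.stalkMap x).hom (d x) := by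
  letI := ((Y.presheaf.stalkSpecializes (specializes_of_eq hdom) ≫
      f.stalkMap (genericPoint X)).hom).toAlgebra
  haveI := hsep
  haveI : Nonempty U := ⟨⟨y, hy⟩⟩
  have hηU : genericPoint Y ∈ U := ((genericPoint_spec Y).mem_open_set_iff U.2).2 (by simpa using ⟨y, hy⟩)
  haveI : Nonempty (f ⁻¹ᵁ U : X.Opens) := ⟨⟨genericPoint X, show f (genericPoint X) ∈ U by rw [hdom]; exact hηU⟩⟩
  haveI := functionField_isFractionRing_of_isAffineOpen Y U hU
  have hW : IsAffineOpen (f ⁻¹ᵁ U) := hU.preimage f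
  haveI := functionField_isFractionRing_of_isAffineOpen X (f ⁻¹ᵁ U) hW
  letI := secAlg f U
  haveI := isDedekindDomain_of_normal hdX hnX hW
  haveI := isDedekindDomain_of_normal hdY hnY hU
  haveI : Module.Finite Γ(Y, U) Γ(X, f ⁻¹ᵁ U) := f.finite_app U hU
  have hKL : ∀ r, algebraMap Y.functionField X.functionField (algebraMap Γ(Y, U) Y.functionField r) =
      algebraMap Γ(X, f ⁻¹ᵁ U) X.functionField (algebraMap Γ(Y, U) Γ(X, f ⁻¹ᵁ U) r) := fun r =>
    overMap_germ f (genericPoint X) (genericPoint Y) hdom U hηU r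
  have hinj : Function.Injective (algebraMap Γ(Y, U) Γ(X, f ⁻¹ᵁ U)) := fun a b h => by
    apply IsFractionRing.injective Γ(Y, U) Y.functionField
    apply (algebraMap Y.functionField X.functionField).injective
    rw [hKL, hKL, h]
  let p := hU.primeIdealOf ⟨y, hy⟩
  letI := Y.presheaf.algebra_section_stalk (⟨y, hy⟩ : U)
  haveI : IsLocalization.AtPrime (Y.presheaf.stalk y) p.asIdeal := hU.isLocalization_stalk ⟨y, hy⟩
  have hp : p.asIdeal ≠ ⊥ := fun h => hy0 (by
    have h1 := hU.fromSpec_primeIdealOf ⟨y, hy⟩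
    have h2 := hU.fromSpec_primeIdealOf ⟨genericPoint Y, hηU⟩
    have h3 : p = hU.primeIdealOf ⟨genericPoint Y, hηU⟩ := by
      rw [hU.primeIdealOf_genericPoint]
      exact PrimeSpectrum.ext (by simpa using h)
    exact h1.symm.trans ((congrArg _ h3).trans h2))
  haveI := IsLocalization.AtPrime.isDiscreteValuationRing_of_dedekind_domain Γ(Y, U) hp (Y.presheaf.stalk y)
  let ι := {x : X // x ∈ F}
  have hxy : ∀ i : ι, f i.1 = y := fun i => (hF i.1).1 i.2
  have hxW : ∀ i : ι, i.1 ∈ f ⁻¹ᵁ U := fun i => show f i.1 ∈ U from (hxy i).symm ▸ hy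
  letI algS : ∀ i : ι, Algebra Γ(X, f ⁻¹ᵁ U) (X.presheaf.stalk i.1) := fun i =>
    X.presheaf.algebra_section_stalk (⟨i.1, hxW i⟩ : (f ⁻¹ᵁ U : X.Opens))
  letI algA : ∀ i : ι, Algebra (Y.presheaf.stalk y) (X.presheaf.stalk i.1) := fun i =>
    (overMap f i.1 y (hxy i)).toAlgebra
  haveI : ∀ i : ι, IsLocalHom (algebraMap (Y.presheaf.stalk y) (X.presheaf.stalk i.1)) := fun i =>
    inferInstanceAs (IsLocalHom (overMap f i.1 y (hxy i)))
  let q : ι → Ideal Γ(X, f ⁻¹ᵁ U) := fun i => (hW.primeIdealOf ⟨i.1, hxW i⟩).asIdeal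
  haveI : ∀ i, (q i).IsPrime := fun i => (hW.primeIdealOf ⟨i.1, hxW i⟩).2
  haveI : ∀ i, IsLocalization.AtPrime (X.presheaf.stalk i.1) (q i) := fun i =>
    hW.isLocalization_stalk ⟨i.1, hxW i⟩
  have hqi : Function.Injective q := by
    intro i j h
    refine Subtype.ext ?_
    rw [← hW.fromSpec_primeIdealOf ⟨i.1, hxW i⟩, ← hW.fromSpec_primeIdealOf ⟨j.1, hxW j⟩]
    exact congrArg _ (PrimeSpectrum.ext h)
  have hqs : ∀ Q : Ideal Γ(X, f ⁻¹ᵁ U), Q.IsPrime → Q.under Γ(Y, U) = p.asIdeal → ∃ i, q i = Q := by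
    intro Q hQ hQp
    let x := hW.fromSpec ⟨Q, hQ⟩
    have hx : x ∈ f ⁻¹ᵁ U := by
      have : x ∈ Set.range hW.fromSpec := ⟨_, rfl⟩
      rwa [hW.range_fromSpec] at this
    have hxQ : hW.primeIdealOf ⟨x, hx⟩ = ⟨Q, hQ⟩ :=
      hW.fromSpec.isOpenEmbedding.injective (hW.fromSpec_primeIdealOf ⟨x, hx⟩)
    have hfx : f x = y := by
      have h := IsAffineOpen.comap_primeIdealOf_appLE (f := f) U hU (f ⁻¹ᵁ U) hW le_rfl hx
      rw [hxQ, ← Scheme.Hom.app_eq_appLE] at h
      have hpe : hU.primeIdealOf ⟨f x, hx⟩ = p := h.symm.trans (PrimeSpectrum.ext hQp)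
      exact (hU.fromSpec_primeIdealOf ⟨f x, hx⟩).symm.trans
        ((congrArg _ hpe).trans (hU.fromSpec_primeIdealOf ⟨y, hy⟩))
    exact ⟨⟨x, (hF x).2 hfx⟩, congrArg PrimeSpectrum.asIdeal hxQ⟩
  obtain ⟨d, hd, hspec⟩ := exists_local_sum hinj Y.functionField X.functionField hKL p.asIdeal
    (Y.presheaf.stalk y) (toBasis f he) (fun i : ι => X.presheaf.stalk i.1)
    (fun i r => (overMap_germ f i.1 y (hxy i) U hy r).symm) q hqi hqs
  · refine ⟨fun x => if h : x ∈ F then d ⟨x, h⟩ else 0, ?_, ?_⟩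
    · rw [disc_eq f he]
      refine (congrArg ENat.toNat hd).trans ?_
      rw [ENat.toNat_natCast, ← F.sum_coe_sort]
      refine Finset.sum_congr rfl fun i _ => ?_
      simp only [dif_pos i.2]
      exact congrArg (d i * ·) (finrank_overMap f i.1 y (hxy i))
    · intro x hx
      simp only [dif_pos ((hF x).2 hx)]
      have h := hspec ⟨x, (hF x).2 hx⟩
      have h' : IsTameSpec (overMap f x y hx) (d ⟨x, (hF x).2 hx⟩) := h.1
      have h'' : IsLenSpec (overMap f x y hx) (d ⟨x, (hF x).2 hx⟩) := h.2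
      subst hx
      exact ⟨IsTameSpec.congr (overMap_self f x) h', IsLenSpec.congr (overMap_self f x) h''⟩

end Groth.L21.Disc
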