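import Groth.Agent.L21.Disc.Exponent
import Mathlib.RingTheory.RamificationInertia.Ramification
import Mathlib.RingTheory.OrderOfVanishing.Basic
import Mathlib.RingTheory.Localization.LocalizationLocalization

/-!
The discriminant of a finite free extension of a discrete valuation ring as a sum over the primes.
-/

set_option autoImplicit false
set_option linter.style.haveILetI false
set_option linter.overlappingInstances false
universe u

open Module IsLocalRing UniqueFactorizationMonoid
open scoped nonZeroDivisors Pointwise

namespace Groth.L21.Disc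

attribute [local instance] Ideal.Quotient.field FractionRing.liftAlgebra FractionRing.isScalarTower_liftAlgebra

section Length

variable (A B : Type u) [CommRing A] [CommRing B] [IsDomain B] [IsPrincipalIdealRing B] [Algebra A B]

/-- Lengths of quotients by ideals are additive in products. -/
theorem length_quotient_mul (I J : Ideal B) (hI : I ≠ ⊥) :
    Module.length A (B ⧸ I * J) = Module.length A (B ⧸ I) + Module.length A (B ⧸ J) := by
  obtain ⟨a, rfl⟩ := (IsPrincipalIdealRing.principal I).principal
  have ha : a ∈ B⁰ := mem_nonZeroDivisors_of_ne_zero fun h => hI (by simp [h])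
  have h := Module.length_eq_add_of_exact ((Ideal.mulQuot a J).restrictScalars A)
    ((Ideal.quotOfMul a J).restrictScalars A) (Ideal.mulQuot_injective J ha)
    (Ideal.quotOfMul_surjective J) (Ideal.exact_mulQuot_quotOfMul J)
  have hIJ : Submodule.span B {a} * J = a • J := by
    rw [← smul_eq_mul]
    exact (Submodule.ideal_span_singleton_smul a J)
  rw [hIJ, h, add_comm]

theorem length_quotient_multiset_prod :
    ∀ (M : Multiset (Ideal B)), (∀ P ∈ M, P ≠ ⊥) →
      Module.length A (B ⧸ M.prod) = (M.map fun P => Module.length A (B ⧸ P)).sum := by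
  intro M
  induction M using Multiset.induction with
  | empty =>
    intro _
    haveI : Subsingleton (B ⧸ (0 : Multiset (Ideal B)).prod) :=
      Ideal.Quotient.subsingleton_iff.mpr (by rw [Multiset.prod_zero, Ideal.one_eq_top])
    rw [Multiset.map_zero, Multiset.sum_zero]
    exact Module.length_eq_zero
  | cons P M ih =>
    intro h
    rw [Multiset.prod_cons, length_quotient_mul A B P _ (h P (Multiset.mem_cons_self P M)),
      ih fun Q hQ => h Q (Multiset.mem_cons_of_mem hQ), Multiset.map_cons, Multiset.sum_cons]

end Length

open Classical in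
/-- The multiplicity of a prime in the different. -/
noncomputable def dexp (A : Type u) {B : Type u} [CommRing A] [IsDomain A] [CommRing B] [IsDedekindDomain B]
    [Algebra A B] [IsIntegrallyClosed A] [Module.IsTorsionFree A B] (P : Ideal B) : ℕ :=
  (normalizedFactors (differentIdeal A B)).count P

variable (A B : Type u) [CommRing A] [IsDomain A] [IsDiscreteValuationRing A] [CommRing B] [IsDomain B]
  [IsDedekindDomain B] [Algebra A B] [Module.Finite A B] [FaithfulSMul A B]
  [Algebra.IsSeparable (FractionRing A) (FractionRing B)]

open Classical in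
/-- The order of the discriminant is the weighted sum of the exponents of the different. -/
theorem ord_det_traceMatrix_eq_sum {n : ℕ} (b : Basis (Fin n) A B) (s : Finset (Ideal B))
    (hs : ∀ P : Ideal B, P.IsMaximal → P ∈ s) :
    Ring.ord A (Algebra.traceMatrix A b).det = ∑ P ∈ s, dexp A P • Module.length A (B ⧸ P) := by
  haveI := isPrincipalIdealRing A B
  have hD : differentIdeal A B ≠ ⊥ := differentIdeal_ne_bot
  rw [ord_det_traceMatrix_eq_length A B b]
  conv_lhs => rw [← prod_normalizedFactors_eq_self hD]
  rw [length_quotient_multiset_prod A B _ fun P hP => (prime_of_normalized_factor P hP).ne_zero]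
  rw [Finset.sum_multiset_map_count]
  refine Finset.sum_subset (fun P hP => hs P
    ((Ideal.isPrime_of_prime (prime_of_normalized_factor P (Multiset.mem_toFinset.1 hP))).isMaximal
      (prime_of_normalized_factor P (Multiset.mem_toFinset.1 hP)).ne_zero)) fun P _ hP => ?_
  rw [Multiset.count_eq_zero.2 fun h => hP (Multiset.mem_toFinset.2 h), zero_smul]

/-- The exponent of the different, the residue degree and tameness at a point. -/
theorem dexp_spec (P : Ideal B) [P.IsMaximal] (O : Type u) [CommRing O] [IsDomain O] [IsLocalRing O]
    [Algebra B O] [IsLocalization.AtPrime O P] [Algebra A O] [IsScalarTower A B O]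
    [IsLocalHom (algebraMap A O)] :
    letI := (ResidueField.map (algebraMap A O)).toAlgebra
    letI : Module (ResidueField A) (ResidueField O) := Algebra.toModule
    (maximalIdeal O).ramificationIdx A - 1 ≤ dexp A P ∧
      (dexp A P = (maximalIdeal O).ramificationIdx A - 1 ↔
        Algebra.IsSeparable (ResidueField A) (ResidueField O) ∧
          (((maximalIdeal O).ramificationIdx A : ℕ) : ResidueField A) ≠ 0) ∧
      Module.length A (B ⧸ P) = Module.finrank (ResidueField A) (ResidueField O) := by
  classical
  letI algκ := (ResidueField.map (algebraMap A O)).toAlgebra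
  letI : Module (ResidueField A) (ResidueField O) := Algebra.toModule
  haveI : IsScalarTower A (ResidueField A) (ResidueField O) := IsScalarTower.of_algebraMap_eq fun _ => rfl
  haveI : Algebra.IsIntegral A B := inferInstance
  haveI hPm : (P.under A).IsMaximal := Ideal.IsMaximal.under A P
  have hPA : P.under A = maximalIdeal A := eq_maximalIdeal hPm
  have hP : maximalIdeal A ≤ P.comap (algebraMap A B) := hPA.ge
  have hpA : maximalIdeal A ≠ ⊥ := IsDiscreteValuationRing.not_a_field A
  have hp' : (maximalIdeal A).map (algebraMap A B) ≠ ⊥ :=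
    (Ideal.map_eq_bot_iff_of_injective (FaithfulSMul.algebraMap_injective A B)).not.mpr hpA
  have hPbot : P ≠ ⊥ := ne_bot_of_le_ne_bot hp' (Ideal.map_le_iff_le_comap.2 hP)
  obtain ⟨Q, hPQ, hfac⟩ := Ideal.eq_prime_pow_mul_coprime hp' P
  set c := Multiset.count P (normalizedFactors ((maximalIdeal A).map (algebraMap A B)))
  have hQP : ¬ Q ≤ P := fun h => by
    rw [sup_of_le_left h] at hPQ
    exact Ideal.IsMaximal.ne_top ‹_› hPQ
  have hc : 0 < c := Nat.pos_of_ne_zero fun h0 => hQP (by
    have := Ideal.map_le_iff_le_comap.2 hP
    rwa [hfac, h0, pow_zero, one_mul] at this)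
  -- the localization
  haveI := IsLocalization.AtPrime.isDiscreteValuationRing_of_dedekind_domain B hPbot O
  have hmapO : (maximalIdeal A).map (algebraMap A O) = maximalIdeal O ^ c := by
    rw [IsScalarTower.algebraMap_eq A B O, ← Ideal.map_map, hfac, Ideal.map_mul, Ideal.map_pow,
      IsLocalization.AtPrime.map_eq_maximalIdeal, IsLocalization.AtPrime.map_eq_top_of_not_le O hQP,
      Ideal.mul_top]
  haveI : (maximalIdeal O).LiesOver (maximalIdeal A) :=
    ⟨(IsLocalRing.maximalIdeal_comap (algebraMap A O)).symm⟩
  have he : (maximalIdeal O).ramificationIdx A = c := by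
    have hne : (maximalIdeal A).map (algebraMap A O) ≠ ⊥ := by
      rw [hmapO]; exact pow_ne_zero _ (IsDiscreteValuationRing.not_a_field O)
    rw [Ideal.IsDedekindDomain.ramificationIdx_eq_multiplicity (maximalIdeal A) (maximalIdeal O) hne, hmapO]
    exact multiplicity_pow_self_of_prime
      (Ideal.prime_of_isPrime (IsDiscreteValuationRing.not_a_field O) inferInstance) c
  -- the residue field
  letI := Ideal.Quotient.algebraQuotientOfLEComap hP
  let e₁ : (A ⧸ maximalIdeal A) ≃+* ResidueField A := RingEquiv.refl (A ⧸ maximalIdeal A)
  let e₂ : (B ⧸ P) ≃+* ResidueField O := IsLocalization.AtPrime.equivQuotMaximalIdeal P O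
  have he₂ : (algebraMap (ResidueField A) (ResidueField O)).comp (e₁ :
      (A ⧸ maximalIdeal A) →+* ResidueField A) = (e₂ : B ⧸ P →+* ResidueField O).comp
        (algebraMap (A ⧸ maximalIdeal A) (B ⧸ P)) := by
    refine Ideal.Quotient.ringHom_ext (RingHom.ext fun a => ?_)
    show IsLocalRing.residue O (algebraMap A O a) = e₂ (Ideal.Quotient.mk P (algebraMap A B a))
    rw [show e₂ (Ideal.Quotient.mk P (algebraMap A B a)) =
      IsLocalRing.residue O (algebraMap B O (algebraMap A B a)) from
        IsLocalization.AtPrime.equivQuotMaximalIdeal_apply_mk P O _, ← IsScalarTower.algebraMap_apply]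
  have hsep : Algebra.IsSeparable (A ⧸ maximalIdeal A) (B ⧸ P) ↔
      Algebra.IsSeparable (ResidueField A) (ResidueField O) :=
    Algebra.IsSeparable.iff_of_equiv_equiv e₁ e₂ he₂
  have hlen : Module.length A (B ⧸ P) = Module.finrank (ResidueField A) (ResidueField O) := by
    let e₃ : (B ⧸ P) ≃ₗ[A] ResidueField O :=
      { e₂.toAddEquiv with
        map_smul' := fun a z => by
          show e₂ (a • z) = a • e₂ z
          rw [Algebra.smul_def, Algebra.smul_def, map_mul]
          congr 1
          have h := congr($he₂ (Ideal.Quotient.mk _ a))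
          exact h.symm }
    haveI : Module.Finite A (ResidueField O) := Module.Finite.equiv e₃
    haveI : Module.Finite (ResidueField A) (ResidueField O) := Module.Finite.of_restrictScalars_finite A _ _
    rw [e₃.length_eq, Module.length_eq_of_surjective (R := ResidueField A) (S := A) IsLocalRing.residue_surjective,
      Module.length_eq_finrank]
  -- the exponent
  have hD : differentIdeal A B ≠ ⊥ := differentIdeal_ne_bot
  have hdvd : ∀ j : ℕ, P ^ j ∣ differentIdeal A B ↔ j ≤ dexp A P := fun j => by
    rw [pow_dvd_iff_le_emultiplicity, emultiplicity_eq_count_normalizedFactors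
      (Ideal.prime_of_isPrime hPbot inferInstance).irreducible hD, normalize_eq, Nat.cast_le]
    rfl
  have hexp := different_exponent A B P Q hc (Ideal.isCoprime_iff_sup_eq.2 hPQ) hfac hP
  rw [hdvd, hdvd, not_le, hsep] at hexp
  rw [he]
  refine ⟨hexp.1, ?_, hlen⟩
  rw [← show _ ↔ Algebra.IsSeparable (ResidueField A) (ResidueField O) ∧ ((c : ℕ) : ResidueField A) ≠ 0 from hexp.2]
  have := hexp.1
  omega

end Groth.L21.Disc
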