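import Groth.Agent.L21.Disc.KaehlerLength

/-!
The order at a prime of the discriminant of a finite free extension of domains.
-/

set_option autoImplicit false
set_option linter.style.haveILetI false
set_option linter.overlappingInstances false
universe u

open Module IsLocalRing
open scoped nonZeroDivisors

namespace Groth.L21.Disc

attribute [local instance] FractionRing.liftAlgebra FractionRing.isScalarTower_liftAlgebra

set_option maxHeartbeats 1000000 in
/-- The order of the discriminant at a prime as a sum over the primes above it. -/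
theorem exists_local_sum {R S : Type u} [CommRing R] [IsDomain R] [CommRing S] [IsDomain S] [IsDedekindDomain S]
    [Algebra R S] [Module.Finite R S] (hinj : Function.Injective (algebraMap R S))
    (K L : Type u) [Field K] [Field L] [Algebra R K] [IsFractionRing R K] [Algebra S L] [IsFractionRing S L]
    [Algebra K L] (hKL : ∀ r, algebraMap K L (algebraMap R K r) = algebraMap S L (algebraMap R S r))
    [Algebra.IsSeparable K L]
    (p : Ideal R) [p.IsPrime] (A : Type u) [CommRing A] [IsDomain A] [IsDiscreteValuationRing A]
    [Algebra R A] [IsLocalization.AtPrime A p]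
    {n : ℕ} (b : Basis (Fin n) R S)
    {ι : Type u} [Fintype ι] (O : ι → Type u) [∀ i, CommRing (O i)] [∀ i, IsDomain (O i)] [∀ i, IsLocalRing (O i)]
    [∀ i, Algebra S (O i)] [∀ i, Algebra A (O i)] [∀ i, IsLocalHom (algebraMap A (O i))]
    (hc : ∀ i r, algebraMap S (O i) (algebraMap R S r) = algebraMap A (O i) (algebraMap R A r))
    (q : ι → Ideal S) [∀ i, (q i).IsPrime] [∀ i, IsLocalization.AtPrime (O i) (q i)]
    (hq : Function.Injective q) (hq' : ∀ Q : Ideal S, Q.IsPrime → Q.under R = p → ∃ i, q i = Q) :
    letI : ∀ i, Algebra (ResidueField A) (ResidueField (O i)) := fun i =>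
      (ResidueField.map (algebraMap A (O i))).toAlgebra
    letI : ∀ i, Module (ResidueField A) (ResidueField (O i)) := fun _ => Algebra.toModule
    ∃ d : ι → ℕ,
      Ring.ord A (algebraMap R A (Algebra.traceMatrix R b).det) =
        ((∑ i, d i * Module.finrank (ResidueField A) (ResidueField (O i)) : ℕ) : ℕ∞) ∧
      ∀ i, ((maximalIdeal (O i)).ramificationIdx A - 1 ≤ d i ∧
        (d i = (maximalIdeal (O i)).ramificationIdx A - 1 ↔
          Algebra.IsSeparable (ResidueField A) (ResidueField (O i)) ∧
            (((maximalIdeal (O i)).ramificationIdx A : ℕ) : ResidueField A) ≠ 0)) ∧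
        Module.length (O i) (KaehlerDifferential A (O i)) = d i := by
  classical
  let M := Algebra.algebraMapSubmonoid S p.primeCompl
  have hM : M ≤ S⁰ := by
    rintro - ⟨r, hr, rfl⟩
    exact mem_nonZeroDivisors_of_ne_zero fun h => hr ((map_eq_zero_iff _ hinj).1 h ▸ zero_mem p)
  let B := Localization M
  haveI : IsDomain B := IsLocalization.isDomain_of_le_nonZeroDivisors B hM
  haveI : IsDedekindDomain B := IsLocalization.isDedekindDomain S hM B
  letI : Algebra A B := (IsLocalization.map B (algebraMap R S)
    (show p.primeCompl ≤ M.comap (algebraMap R S) from fun r hr => ⟨r, hr, rfl⟩) : A →+* B).toAlgebra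
  haveI : IsScalarTower R A B := IsScalarTower.of_algebraMap_eq fun r => by
    show algebraMap R B r = IsLocalization.map B (algebraMap R S) _ (algebraMap R A r)
    rw [IsLocalization.map_eq]
    exact IsScalarTower.algebraMap_apply R S B r
  let bB : Basis (Fin n) A B := b.localizationLocalization A p.primeCompl B
  haveI : Module.Finite A B := Module.Finite.of_basis bB
  haveI : FaithfulSMul A B := (faithfulSMul_iff_algebraMap_injective A B).2
    (IsLocalization.map_injective_of_injective' (M := p.primeCompl) (S := S) (Sₘ := B) (N := M)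
      (hf := fun r hr => ⟨r, hr, rfl⟩) (fun h => zero_notMem_nonZeroDivisors (hM h)) hinj)
  -- separability
  have hK : ∀ m : p.primeCompl, IsUnit (algebraMap R K m) := fun m => isUnit_iff_ne_zero.2 fun h => m.2 (by
    rw [IsFractionRing.injective R K (h.trans (map_zero _).symm)]; exact zero_mem p)
  letI : Algebra A K := (IsLocalization.lift hK : A →+* K).toAlgebra
  haveI : IsScalarTower R A K := IsScalarTower.of_algebraMap_eq fun r => (IsLocalization.lift_eq hK r).symm
  haveI : IsFractionRing A K := IsFractionRing.isFractionRing_of_isDomain_of_isLocalization p.primeCompl A K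
  have hL : ∀ m : M, IsUnit (algebraMap S L m) := fun m =>
    isUnit_iff_ne_zero.2 ((map_ne_zero_iff _ (IsFractionRing.injective S L)).2 (nonZeroDivisors.ne_zero (hM m.2)))
  letI : Algebra B L := (IsLocalization.lift hL : B →+* L).toAlgebra
  haveI : IsScalarTower S B L := IsScalarTower.of_algebraMap_eq fun r => (IsLocalization.lift_eq hL r).symm
  haveI : IsFractionRing B L := IsFractionRing.isFractionRing_of_isDomain_of_isLocalization M B L
  have hKL' : ∀ a, algebraMap K L (algebraMap A K a) = algebraMap B L (algebraMap A B a) := fun a => by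
    refine congr($(IsLocalization.ringHom_ext (j := (algebraMap K L).comp (algebraMap A K))
      (k := (algebraMap B L).comp (algebraMap A B)) p.primeCompl (RingHom.ext fun r => ?_)) a)
    show algebraMap K L (algebraMap A K (algebraMap R A r)) = algebraMap B L (algebraMap A B (algebraMap R A r))
    rw [← IsScalarTower.algebraMap_apply R A K, hKL, ← IsScalarTower.algebraMap_apply R A B,
      IsScalarTower.algebraMap_apply R S B, ← IsScalarTower.algebraMap_apply S B L]
  let e₁ : K ≃+* FractionRing A := (IsLocalization.algEquiv A⁰ K (FractionRing A)).toRingEquiv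
  let e₂ : L ≃+* FractionRing B := (IsLocalization.algEquiv B⁰ L (FractionRing B)).toRingEquiv
  haveI : Algebra.IsSeparable (FractionRing A) (FractionRing B) := by
    refine Algebra.IsSeparable.of_equiv_equiv e₁ e₂ (IsLocalization.ringHom_ext A⁰ (RingHom.ext fun a => ?_))
    show algebraMap (FractionRing A) (FractionRing B) (e₁ (algebraMap A K a)) =
      e₂ (algebraMap K L (algebraMap A K a))
    have h1 : e₁ (algebraMap A K a) = algebraMap A (FractionRing A) a :=
      (IsLocalization.algEquiv A⁰ K (FractionRing A)).commutes a
    have h2 : e₂ (algebraMap B L (algebraMap A B a)) = algebraMap B (FractionRing B) (algebraMap A B a) :=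
      (IsLocalization.algEquiv B⁰ L (FractionRing B)).commutes _
    rw [h1, hKL', h2, ← IsScalarTower.algebraMap_apply A (FractionRing A) (FractionRing B),
      IsScalarTower.algebraMap_apply A B (FractionRing B)]
  -- the points
  have hunit : ∀ i (m : M), IsUnit (algebraMap S (O i) m) := by
    rintro i ⟨-, r, hr, rfl⟩
    rw [hc]
    exact (IsLocalization.map_units A (⟨r, hr⟩ : p.primeCompl)).map _
  letI algB : ∀ i, Algebra B (O i) := fun i => (IsLocalization.lift (hunit i)).toAlgebra
  haveI : ∀ i, IsScalarTower S B (O i) := fun i => IsScalarTower.of_algebraMap_eq fun s =>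
    (IsLocalization.lift_eq (hunit i) s).symm
  haveI : ∀ i, IsScalarTower A B (O i) := fun i => IsScalarTower.of_algebraMap_eq' <|
    IsLocalization.ringHom_ext p.primeCompl (RingHom.ext fun r => by
      show algebraMap A (O i) (algebraMap R A r) = algebraMap B (O i) (algebraMap A B (algebraMap R A r))
      rw [← IsScalarTower.algebraMap_apply R A B, IsScalarTower.algebraMap_apply R S B,
        ← IsScalarTower.algebraMap_apply S B (O i), hc])
  let P : ι → Ideal B := fun i => (maximalIdeal (O i)).comap (algebraMap B (O i))
  have hPS : ∀ i, (P i).comap (algebraMap S B) = q i := fun i => by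
    rw [Ideal.comap_comap, ← IsScalarTower.algebraMap_eq]
    exact IsLocalization.AtPrime.comap_maximalIdeal (O i) (q i)
  obtain ⟨ϖ, hϖ⟩ := IsDiscreteValuationRing.exists_irreducible A
  have hPne : ∀ i, P i ≠ ⊥ := fun i h => by
    have hm : algebraMap A B ϖ ∈ P i := by
      rw [Ideal.mem_comap, ← IsScalarTower.algebraMap_apply]
      exact map_nonunit (algebraMap A (O i)) ϖ ((mem_maximalIdeal _).2 hϖ.not_isUnit)
    rw [h, Ideal.mem_bot] at hm
    exact hϖ.ne_zero ((map_eq_zero_iff _ (FaithfulSMul.algebraMap_injective A B)).1 hm)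
  haveI hPmax : ∀ i, (P i).IsMaximal := fun i => Ideal.IsPrime.isMaximal (Ideal.comap_isPrime _ _) (hPne i)
  haveI : ∀ i, IsLocalization.AtPrime (O i) (P i) := fun i => by
    have hle : M ≤ (q i).primeCompl := fun s hs hsq =>
      (mem_maximalIdeal _).1 ((IsLocalization.AtPrime.to_map_mem_maximal_iff (O i) (q i) s).2 hsq) (hunit i ⟨s, hs⟩)
    haveI := IsLocalization.isLocalization_of_submonoid_le (R := S) B (O i) M (q i).primeCompl hle
    refine IsLocalization.of_le (Submonoid.map (algebraMap S B) (q i).primeCompl) (P i).primeCompl ?_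
      fun z hz => Classical.not_not.1 fun h => hz ((mem_maximalIdeal _).2 h)
    rintro - ⟨s, hs, rfl⟩ h
    exact hs ((hPS i).le h)
  have hPinj : Function.Injective P := fun i j h => hq (by rw [← hPS, ← hPS, h])
  have hPsurj : ∀ Q : Ideal B, Q.IsMaximal → Q ∈ Finset.univ.image P := by
    intro Q hQ
    haveI : Algebra.IsIntegral A B := inferInstance
    haveI hm : (Q.under A).IsMaximal := Ideal.IsMaximal.under A Q
    have h : (Q.comap (algebraMap S B)).under R = p := by
      rw [Ideal.under_def, Ideal.comap_comap, ← IsScalarTower.algebraMap_eq, IsScalarTower.algebraMap_eq R A B,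
        ← Ideal.comap_comap]
      show (Q.under A).comap (algebraMap R A) = p
      rw [eq_maximalIdeal hm]
      exact IsLocalization.AtPrime.comap_maximalIdeal A p
    obtain ⟨i, hi⟩ := hq' _ inferInstance h
    refine Finset.mem_image.2 ⟨i, Finset.mem_univ _, ?_⟩
    rw [← IsLocalization.map_comap M B (P i), ← IsLocalization.map_comap M B Q]
    exact congrArg (Ideal.map (algebraMap S B)) ((hPS i).trans hi)
  refine ⟨fun i => dexp A (P i), ?_, fun i =>
    ⟨⟨(dexp_spec A B (P i) (O i)).1, (dexp_spec A B (P i) (O i)).2.1⟩,
      length_kaehler_eq_dexp A B (P i) (hPne i) (O i)⟩⟩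
  have hdet : algebraMap R A (Algebra.traceMatrix R b).det = (Algebra.traceMatrix A bB).det := by
    rw [map_traceMatrix (algebraMap R A) (algebraMap S B)
      (fun r => by rw [← IsScalarTower.algebraMap_apply, ← IsScalarTower.algebraMap_apply]) b bB
      fun i => b.localizationLocalization_apply A p.primeCompl B i]
    exact RingHom.map_det _ _
  rw [hdet, ord_det_traceMatrix_eq_sum A B bB _ hPsurj, Finset.sum_image fun i _ j _ h => hPinj h, Nat.cast_sum]
  refine Finset.sum_congr rfl fun i _ => ?_
  rw [(dexp_spec A B (P i) (O i)).2.2, nsmul_eq_mul, Nat.cast_mul]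

end Groth.L21.Disc
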