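import Groth.Agent.L21.Disc.TraceAlg
import Groth.Agent.L22.CurveDeg.Det.Alg
import Mathlib.RingTheory.DedekindDomain.Different
import Mathlib.RingTheory.DedekindDomain.PID
import Mathlib.RingTheory.DedekindDomain.Ideal.Lemmas
import Mathlib.RingTheory.DiscreteValuationRing.TFAE

/-!
The discriminant of a finite free extension of a discrete valuation ring and the different.
-/

set_option autoImplicit false
set_option linter.style.haveILetI false
universe u

open Module IsLocalRing
open scoped nonZeroDivisors

namespace Groth.L21.Disc

attribute [local instance] FractionRing.liftAlgebra FractionRing.isScalarTower_liftAlgebra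

variable (A B : Type u) [CommRing A] [IsDomain A] [IsDiscreteValuationRing A] [CommRing B] [IsDomain B]
  [IsDedekindDomain B] [Algebra A B] [Module.Finite A B] [FaithfulSMul A B]
  [Algebra.IsSeparable (FractionRing A) (FractionRing B)]

omit [Algebra.IsSeparable (FractionRing A) (FractionRing B)] in
include A in
/-- A Dedekind domain finite over a discrete valuation ring is principal. -/
theorem isPrincipalIdealRing : IsPrincipalIdealRing B := by
  haveI : Algebra.IsIntegral A B := inferInstance
  refine IsPrincipalIdealRing.of_finite_maximals (((IsDedekindDomain.primesOver_finite (maximalIdeal A) B).subset ?_))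
  intro P hP
  haveI : P.IsMaximal := hP
  haveI : (P.under A).IsMaximal := Ideal.IsMaximal.under A P
  exact ⟨hP.isPrime, ⟨(eq_maximalIdeal ‹(P.under A).IsMaximal›).symm⟩⟩

set_option maxHeartbeats 800000 in
/-- The order of the discriminant is the length of the quotient by the different. -/
theorem ord_det_traceMatrix_eq_length {n : ℕ} (b : Basis (Fin n) A B) :
    Ring.ord A (Algebra.traceMatrix A b).det = Module.length A (B ⧸ differentIdeal A B) := by
  classical
  let K := FractionRing A
  let L := FractionRing B
  haveI : IsLocalization (Algebra.algebraMapSubmonoid B A⁰) L := IsIntegralClosure.isLocalization _ K _ _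
  haveI : FiniteDimensional K L := .of_isLocalization A B A⁰
  haveI := isPrincipalIdealRing A B
  obtain ⟨δ, hδ⟩ := (IsPrincipalIdealRing.principal (differentIdeal A B)).principal
  have hδ0 : algebraMap B L δ ≠ 0 := by
    refine (map_ne_zero_iff _ (IsFractionRing.injective B L)).2 fun h => differentIdeal_ne_bot (A := A) (B := B) ?_
    rw [hδ, h]; simp
  let bL : Basis (Fin n) K L := b.localizationLocalization K A⁰ L
  have hbL : ∀ i, bL i = algebraMap B L (b i) := b.localizationLocalization_apply K A⁰ L
  -- the dual of `B`
  have hdual : ∀ z : L, z ∈ Submodule.traceDual A K (1 : Submodule B L) ↔ z * algebraMap B L δ ∈ (1 : Submodule B L) := by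
    intro z
    have h1 : (FractionalIdeal.dual A K (1 : FractionalIdeal B⁰ L)) =
        FractionalIdeal.spanSingleton B⁰ (algebraMap B L δ)⁻¹ := by
      rw [← inv_inv (FractionalIdeal.dual A K (1 : FractionalIdeal B⁰ L)), ← coeIdeal_differentIdeal A K L B,
        ← FractionalIdeal.spanSingleton_inv, hδ, ← FractionalIdeal.coeIdeal_span_singleton]
    have h2 : z ∈ FractionalIdeal.dual A K (1 : FractionalIdeal B⁰ L) ↔
        z ∈ Submodule.traceDual A K (1 : Submodule B L) := by
      rw [← FractionalIdeal.mem_coe, FractionalIdeal.coe_dual_one]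
    rw [← h2, h1, FractionalIdeal.mem_spanSingleton, Submodule.mem_one]
    constructor
    · rintro ⟨c, rfl⟩
      exact ⟨c, by rw [Algebra.smul_def, mul_assoc, inv_mul_cancel₀ hδ0, mul_one]⟩
    · rintro ⟨c, hc⟩
      exact ⟨c, by rw [Algebra.smul_def, hc, mul_assoc, mul_inv_cancel₀ hδ0, mul_one]⟩
  have hspan : (1 : Submodule B L).restrictScalars A = Submodule.span A (Set.range bL) := by
    rw [show (⇑bL) = (IsScalarTower.toAlgHom A B L).toLinearMap ∘ b from funext hbL, Set.range_comp,
      ← Submodule.map_span, b.span_eq, Submodule.map_top]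
    ext z
    simp [Submodule.mem_one]
  have hdspan := Submodule.traceDual_span_of_basis A (1 : Submodule B L) bL hspan
  -- `δ` times the dual basis
  have hM : ∀ j, ∃ c : B, algebraMap B L c = bL.traceDual j * algebraMap B L δ := fun j => by
    refine Submodule.mem_one.1 ((hdual _).1 ?_)
    have : bL.traceDual j ∈ Submodule.span A (Set.range bL.traceDual) := Submodule.subset_span ⟨j, rfl⟩
    rwa [← hdspan] at this
  choose c hc using hM
  let M : Matrix (Fin n) (Fin n) A := Matrix.of fun j l => b.repr (c j) l
  have hN : ∀ i, ∃ v : Fin n → A, algebraMap B L (b i) =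
      ∑ j, algebraMap A L (v j) * (bL.traceDual j * algebraMap B L δ) := fun i => by
    have hmem : algebraMap B L (b i) * (algebraMap B L δ)⁻¹ ∈ Submodule.span A (Set.range bL.traceDual) := by
      rw [← hdspan, Submodule.restrictScalars_mem, hdual, mul_assoc, inv_mul_cancel₀ hδ0, mul_one]
      exact Submodule.mem_one.2 ⟨_, rfl⟩
    obtain ⟨v, hv⟩ := (Submodule.mem_span_range_iff_exists_fun A).1 hmem
    refine ⟨v, ?_⟩
    have h3 := congrArg (· * algebraMap B L δ) hv
    simp only [mul_assoc, inv_mul_cancel₀ hδ0, mul_one] at h3
    rw [← h3, Finset.sum_mul]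
    exact Finset.sum_congr rfl fun j _ => by rw [Algebra.smul_def, mul_assoc]
  choose N hN using hN
  have hNc : ∀ i, b i = ∑ j, N i j • c j := fun i => by
    apply IsFractionRing.injective B L
    rw [hN i, map_sum]
    refine Finset.sum_congr rfl fun j _ => ?_
    rw [Algebra.smul_def, map_mul, hc, ← IsScalarTower.algebraMap_apply A B L]
  have hNM : Matrix.of N * M = 1 := by
    ext i l
    have h4 := congrArg (fun z => b.repr z l) (hNc i)
    simp only [map_sum, map_smul, Finsupp.coe_finsetSum, Finset.sum_apply, Finsupp.coe_smul, Pi.smul_apply,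
      smul_eq_mul, b.repr_self, Finsupp.single_apply] at h4
    rw [Matrix.mul_apply, Matrix.one_apply]
    exact h4.symm
  have hMu : IsUnit M.det := IsUnit.of_mul_eq_one_right _ (by rw [← Matrix.det_mul, hNM, Matrix.det_one])
  let T := Algebra.traceMatrix A b
  let S : Matrix (Fin n) (Fin n) A := Matrix.of fun i l => b.repr (δ * b i) l
  have hTb : ∀ i, δ * b i = ∑ j, T i j • c j := fun i => by
    apply IsFractionRing.injective B L
    rw [map_mul, map_sum]
    conv_lhs => rw [← hbL i, ← bL.traceDual.sum_repr (bL i), Finset.mul_sum]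
    refine Finset.sum_congr rfl fun j _ => ?_
    rw [Algebra.smul_def (T i j), map_mul, ← IsScalarTower.algebraMap_apply A B L, hc,
      Basis.traceDual_repr_apply]
    have h5 : (Algebra.traceForm K L (bL i)) (bL j) = algebraMap A K (T i j) := by
      have h6 := congrFun (congrFun (map_traceMatrix (algebraMap A K) (algebraMap B L)
        (fun r => by rw [← IsScalarTower.algebraMap_apply, ← IsScalarTower.algebraMap_apply]) b bL hbL) i) j
      rw [Algebra.traceMatrix_apply] at h6
      exact h6
    rw [h5, Algebra.smul_def, ← IsScalarTower.algebraMap_apply A K L]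
    ring
  have hS : S = T * M := by
    ext i l
    have h7 := congrArg (fun z => b.repr z l) (hTb i)
    simp only [map_sum, map_smul, Finsupp.coe_finsetSum, Finset.sum_apply, Finsupp.coe_smul, Pi.smul_apply,
      smul_eq_mul] at h7
    rw [Matrix.mul_apply]
    exact h7
  have hS0 : S.det ≠ 0 := by
    rw [hS, Matrix.det_mul]
    exact mul_ne_zero (det_traceMatrix_ne_zero (FaithfulSMul.algebraMap_injective A B) b K L) hMu.ne_zero
  have hlen := Groth.L22.CurveDeg.Det.length_quotient_span (A := A) b.equivFun.symm (fun i => δ * b i) S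
    (fun i => by
      rw [Basis.equivFun_symm_apply]
      exact (b.sum_repr (δ * b i)).symm) hS0
  rw [hS, Matrix.det_mul, Ring.ord_mul_of_isUnit_right hMu] at hlen
  rw [← hlen]
  have hspanδ : Submodule.span A (Set.range fun i => δ * b i) = (differentIdeal A B).restrictScalars A := by
    rw [show (fun i => δ * b i) = (LinearMap.mulLeft A δ) ∘ b from rfl, Set.range_comp, ← Submodule.map_span,
      b.span_eq, Submodule.map_top, hδ]
    ext z
    simp only [LinearMap.mem_range, LinearMap.mulLeft_apply, Submodule.restrictScalars_mem,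
      Submodule.mem_span_singleton, smul_eq_mul]
    exact ⟨fun ⟨w, hw⟩ => ⟨w, (mul_comm _ _).trans hw⟩, fun ⟨w, hw⟩ => ⟨w, (mul_comm _ _).trans hw⟩⟩
  rw [(Submodule.quotEquivOfEq _ _ hspanδ).length_eq]
  exact (Submodule.Quotient.restrictScalarsEquiv A (differentIdeal A B)).length_eq

end Groth.L21.Disc
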